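import Mathlib.AlgebraicGeometry.ResidueField
import Mathlib.AlgebraicGeometry.AffineScheme
import Mathlib.RingTheory.Finiteness.Basic
import Mathlib.RingTheory.RingHom.Finite

/-!
# Evaluation of sections over an affine open in residue fields
-/

set_option autoImplicit false

universe u

open CategoryTheory AlgebraicGeometry

namespace Groth.Agent.Lib.Normalization.Eval

variable {X : Scheme.{u}} {U : X.Opens}

theorem mem_primeIdealOf_iff (hU : IsAffineOpen U) {x : X} (hx : x ∈ U) (a : Γ(X, U)) :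
    a ∈ (hU.primeIdealOf ⟨x, hx⟩).asIdeal ↔ X.evaluation U x hx a = 0 := by
  rw [Scheme.evaluation_eq_zero_iff_notMem_basicOpen]
  have h : hU.primeIdealOf ⟨x, hx⟩ ∈ hU.fromSpec ⁻¹ᵁ X.basicOpen a ↔ x ∈ X.basicOpen a := by
    show hU.fromSpec (hU.primeIdealOf ⟨x, hx⟩) ∈ X.basicOpen a ↔ _
    rw [hU.fromSpec_primeIdealOf]
  rw [← h, hU.fromSpec_preimage_basicOpen]
  exact not_not.symm

theorem ker_evaluation (hU : IsAffineOpen U) {x : X} (hx : x ∈ U) :
    RingHom.ker (X.evaluation U x hx).hom = (hU.primeIdealOf ⟨x, hx⟩).asIdeal :=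
  Ideal.ext fun a => (mem_primeIdealOf_iff hU hx a).symm

/-- Every element of the residue field is a quotient of evaluated sections. -/
theorem exists_evaluation_mul_eq (hU : IsAffineOpen U) {x : X} (hx : x ∈ U) (c : X.residueField x) :
    ∃ a b : Γ(X, U), X.evaluation U x hx b ≠ 0 ∧
      c * X.evaluation U x hx b = X.evaluation U x hx a := by
  obtain ⟨s, rfl⟩ := X.residue_surjective x c
  let := TopCat.Presheaf.algebra_section_stalk X.presheaf (⟨x, hx⟩ : U)
  have := hU.isLocalization_stalk ⟨x, hx⟩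
  obtain ⟨⟨a, b⟩, hab⟩ := IsLocalization.surj (hU.primeIdealOf ⟨x, hx⟩).asIdeal.primeCompl
    (S := X.presheaf.stalk (⟨x, hx⟩ : U).1) s
  refine ⟨a, b.1, fun h => b.2 ((mem_primeIdealOf_iff hU hx _).2 h), ?_⟩
  have := congrArg (X.residue x) hab
  rw [map_mul] at this
  exact this

/-- At a closed point evaluation is surjective. -/
theorem evaluation_surjective_of_isMaximal (hU : IsAffineOpen U) {x : X} (hx : x ∈ U)
    (hmax : (hU.primeIdealOf ⟨x, hx⟩).asIdeal.IsMaximal) :
    Function.Surjective (X.evaluation U x hx) := by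
  intro c
  obtain ⟨a, b, hb, hc⟩ := exists_evaluation_mul_eq hU hx c
  obtain ⟨y, i, hi, hyi⟩ := hmax.exists_inv (fun h => hb ((mem_primeIdealOf_iff hU hx b).1 h))
  refine ⟨a * y, ?_⟩
  have h1 := congrArg (X.evaluation U x hx) hyi
  rw [map_add, (mem_primeIdealOf_iff hU hx i).1 hi, add_zero, map_one, map_mul] at h1
  rw [map_mul, ← hc]
  calc c * X.evaluation U x hx b * X.evaluation U x hx y
      = c * (X.evaluation U x hx y * X.evaluation U x hx b) := by ring
    _ = c := by rw [h1, mul_one]

/-- Finiteness of a residue field map from finiteness on sections. -/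
theorem residueFieldMap_finite {Y : Scheme.{u}} (f : X ⟶ Y) {V : Y.Opens} {x : X} (hx : f x ∈ V)
    (h : ((X.evaluation (f ⁻¹ᵁ V) x hx).hom.comp (f.app V).hom).Finite) :
    (f.residueFieldMap x).hom.Finite := by
  have e : (f.residueFieldMap x).hom.comp (Y.evaluation V (f x) hx).hom =
      (X.evaluation (f ⁻¹ᵁ V) x hx).hom.comp (f.app V).hom := by
    rw [← CommRingCat.hom_comp, ← CommRingCat.hom_comp, Scheme.evaluation_naturality]
  rw [← e] at h
  exact RingHom.Finite.of_comp_finite h

end Groth.Agent.Lib.Normalization.Eval
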