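import Groth.Agent.Lib.Normalization.InField
import Groth.Agent.Lib.Normalization.Eval
import Mathlib.RingTheory.Localization.Integral

/-!
# The generic point of a normalization in an extension field
-/

set_option autoImplicit false
set_option linter.style.haveILetI false

universe u

open CategoryTheory AlgebraicGeometry TopologicalSpace

namespace Groth.Agent.Lib.Normalization.InFieldGeneric

open Groth.Agent.Lib.Normalization.InField Groth.Agent.Lib.SchTopo.Basic

variable {X : Scheme.{u}} [IsIntegral X] {K : Type u} [Field K] (φ : X.functionField →+* K)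
  (g : Spec (CommRingCat.of K) ⟶ X)
  (hg : g = Spec.map (CommRingCat.ofHom φ) ≫ X.fromSpecStalk (genericPoint X))
  [QuasiCompact g] [QuasiSeparated g]

include hg

theorem eq_genericPoint_of_mem_fibre (y : ↥g.normalization)
    (hy : g.fromNormalization y = genericPoint X) :
    haveI := isIntegral_normalization g
    y = genericPoint g.normalization := by
  haveI := isIntegral_normalization g
  exact (isIntegralHom_eq_of_specializes g.fromNormalization (genericPoint_specializes y)
    ((fromNormalization_genericPoint φ g hg).trans hy.symm)).symm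

theorem toNormalization_eq_genericPoint (z : ↥(Spec (CommRingCat.of K))) :
    haveI := isIntegral_normalization g
    g.toNormalization z = genericPoint g.normalization := by
  refine eq_genericPoint_of_mem_fibre φ g hg _ ?_
  rw [← Scheme.Hom.comp_apply, Scheme.Hom.toNormalization_fromNormalization]
  exact apply_eq φ g hg z

theorem stalkClosedPointTo_germ {U : X.Opens} (hU : IsAffineOpen U) [Nonempty U]
    (hmem : g.toNormalization (IsLocalRing.closedPoint K) ∈ g.fromNormalization ⁻¹ᵁ U)
    (z : Γ(g.normalization, g.fromNormalization ⁻¹ᵁ U)) :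
    letI := algebraK φ U
    (Scheme.stalkClosedPointTo g.toNormalization).hom
      (g.normalization.presheaf.germ (g.fromNormalization ⁻¹ᵁ U) _ hmem z) =
        ((sectionsEquiv φ g hg hU z : integralClosure Γ(X, U) K) : K) := by
  let := algebraK φ U
  let := (g.app U).hom.toAlgebra
  have h1 := congr($(Scheme.germ_stalkClosedPointTo g.toNormalization (g.fromNormalization ⁻¹ᵁ U) hmem) z)
  refine h1.trans ?_
  have h2 := congr($(g.normalizationObjIso_hom_val hU) z)
  show _ = genEquiv φ g hg U ((g.normalizationObjIso hU).hom z).1
  rw [show ((g.normalizationObjIso hU).hom z).1 = _ from h2]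
  simp only [CommRingCat.comp_apply, Iso.trans_hom, Functor.mapIso_hom, Iso.op_hom, eqToIso.hom,
    genEquiv, Scheme.Hom.appLE]
  show _ = (Scheme.ΓSpecIso (CommRingCat.of K)).hom
    ((Spec (CommRingCat.of K)).presheaf.map _ ((Spec (CommRingCat.of K)).presheaf.map _
      (g.toNormalization.app (g.fromNormalization ⁻¹ᵁ U) z)))
  refine congrArg (Scheme.ΓSpecIso (CommRingCat.of K)).hom ?_
  rw [← CommRingCat.comp_apply, ← Functor.map_comp]
  rfl

theorem range_stalkClosedPointTo :
    Set.range (Scheme.stalkClosedPointTo g.toNormalization).hom =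
      {y : K | ∃ q : Polynomial X.functionField, q.Monic ∧ Polynomial.eval₂ φ y q = 0} := by
  classical
  haveI := isIntegral_normalization g
  letI : Algebra X.functionField K := φ.toAlgebra
  have hset : {y : K | ∃ q : Polynomial X.functionField, q.Monic ∧ Polynomial.eval₂ φ y q = 0} =
      {y : K | IsIntegral X.functionField y} := rfl
  rw [hset]
  obtain ⟨_, ⟨U, hU, rfl⟩, hxU, -⟩ := X.isBasis_affineOpens.exists_subset_of_mem_open
    (Set.mem_univ (genericPoint X)) isOpen_univ
  replace hU : IsAffineOpen U := hU
  haveI : Nonempty U := ⟨⟨_, hxU⟩⟩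
  let := algebraK φ U
  haveI := functionField_isFractionRing_of_isAffineOpen X U hU
  haveI : IsScalarTower Γ(X, U) X.functionField K := .of_algebraMap_eq fun a => rfl
  set y := g.toNormalization (IsLocalRing.closedPoint K) with hy
  have hy' : y = genericPoint g.normalization := toNormalization_eq_genericPoint φ g hg _
  have hmem : y ∈ g.fromNormalization ⁻¹ᵁ U := by
    show g.fromNormalization y ∈ U
    rw [hy', fromNormalization_genericPoint φ g hg]
    exact hxU
  have hV : IsAffineOpen (g.fromNormalization ⁻¹ᵁ U) := hU.preimage _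
  let := TopCat.Presheaf.algebra_section_stalk g.normalization.presheaf
    (⟨y, hmem⟩ : (g.fromNormalization ⁻¹ᵁ U))
  haveI := hV.isLocalization_stalk ⟨y, hmem⟩
  have hint : ∀ z, IsIntegral X.functionField
      ((sectionsEquiv φ g hg hU z : integralClosure Γ(X, U) K) : K) := fun z =>
    (sectionsEquiv φ g hg hU z).2.tower_top
  ext x
  constructor
  · rintro ⟨c, rfl⟩
    obtain ⟨⟨a, b⟩, hab⟩ := IsLocalization.surj (hV.primeIdealOf ⟨y, hmem⟩).asIdeal.primeCompl c
    have hu : IsUnit ((Scheme.stalkClosedPointTo g.toNormalization).hom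
        (algebraMap _ (g.normalization.presheaf.stalk y) b.1)) :=
      (IsLocalization.map_units _ b).map (Scheme.stalkClosedPointTo g.toNormalization).hom
    have h := congrArg (Scheme.stalkClosedPointTo g.toNormalization).hom hab
    rw [map_mul] at h
    show IsIntegral X.functionField _
    rw [(eq_mul_inv_iff_mul_eq₀ hu.ne_zero).2 h]
    refine IsIntegral.mul ?_ (IsIntegral.inv ?_)
    · exact (stalkClosedPointTo_germ φ g hg hU hmem a).symm ▸ hint a
    · exact (stalkClosedPointTo_germ φ g hg hU hmem b.1).symm ▸ hint b.1
  · intro hx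
    obtain ⟨m, hm⟩ := IsIntegral.exists_multiple_integral_of_isLocalization
      (Rₘ := X.functionField) (nonZeroDivisors Γ(X, U)) x hx
    let z := (sectionsEquiv φ g hg hU).symm ⟨m • x, hm⟩
    let t := g.fromNormalization.app U (m : Γ(X, U))
    have hz : (Scheme.stalkClosedPointTo g.toNormalization).hom
        (g.normalization.presheaf.germ _ y hmem z) = m • x :=
      (stalkClosedPointTo_germ φ g hg hU hmem z).trans
        (congrArg Subtype.val ((sectionsEquiv φ g hg hU).apply_symm_apply _))
    have ht : (Scheme.stalkClosedPointTo g.toNormalization).hom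
        (g.normalization.presheaf.germ _ y hmem t) = algebraMap Γ(X, U) K m :=
      (stalkClosedPointTo_germ φ g hg hU hmem t).trans
        (congrArg Subtype.val (sectionsEquiv_app φ g hg hU _))
    have hm0 : algebraMap Γ(X, U) K m ≠ 0 := by
      rw [IsScalarTower.algebraMap_apply Γ(X, U) X.functionField K,
        map_ne_zero_iff _ (algebraMap X.functionField K).injective,
        map_ne_zero_iff _ (IsFractionRing.injective Γ(X, U) X.functionField)]
      exact nonZeroDivisors.ne_zero m.2
    have hfield : IsField (g.normalization.presheaf.stalk y) := by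
      rw [hy']; exact Field.toIsField g.normalization.functionField
    have htne : g.normalization.presheaf.germ _ y hmem t ≠ 0 := fun h0 => hm0 (by
      rw [← ht, h0, map_zero])
    obtain ⟨w, hw⟩ := hfield.mul_inv_cancel htne
    refine ⟨g.normalization.presheaf.germ _ y hmem z * w, ?_⟩
    have h1 := congrArg (Scheme.stalkClosedPointTo g.toNormalization).hom hw
    rw [map_mul, ht, map_one] at h1
    rw [map_mul, hz, Submonoid.smul_def, Algebra.smul_def, mul_comm (algebraMap _ K _), mul_assoc]
    exact (congrArg (x * ·) h1).trans (mul_one x)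

theorem injective_stalkClosedPointTo :
    Function.Injective (Scheme.stalkClosedPointTo g.toNormalization).hom := by
  haveI := isIntegral_normalization g
  have H : ∀ y : ↥g.normalization, y = genericPoint g.normalization →
      IsField (g.normalization.presheaf.stalk y) := by
    rintro y rfl; exact Field.toIsField g.normalization.functionField
  have hf := H _ (toNormalization_eq_genericPoint φ g hg (IsLocalRing.closedPoint K))
  letI := hf.toField
  exact (Scheme.stalkClosedPointTo g.toNormalization).hom.injective

theorem surjective_residueFieldMap (hφ : Function.Surjective φ) (y : ↥g.normalization)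
    (hy : g.fromNormalization y = genericPoint X) :
    Function.Surjective (g.fromNormalization.residueFieldMap y).hom := by
  haveI := isIntegral_normalization g
  intro c
  obtain ⟨_, ⟨U, hU, rfl⟩, hxU, -⟩ := X.isBasis_affineOpens.exists_subset_of_mem_open
    (Set.mem_univ (genericPoint X)) isOpen_univ
  replace hU : IsAffineOpen U := hU
  haveI : Nonempty U := ⟨⟨_, hxU⟩⟩
  let := algebraK φ U
  haveI := functionField_isFractionRing_of_isAffineOpen X U hU
  have hyU : y ∈ g.fromNormalization ⁻¹ᵁ U := by
    show g.fromNormalization y ∈ U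
    rw [hy]; exact hxU
  have hV : IsAffineOpen (g.fromNormalization ⁻¹ᵁ U) := hU.preimage _
  let e := sectionsEquiv φ g hg hU
  have hne : ∀ z : Γ(g.normalization, g.fromNormalization ⁻¹ᵁ U), z ≠ 0 →
      g.normalization.evaluation (g.fromNormalization ⁻¹ᵁ U) y hyU z ≠ 0 := fun z hz h => by
    have h1 := (Scheme.evaluation_eq_zero_iff_notMem_basicOpen _ _ _ _).1 h
    apply h1
    rw [eq_genericPoint_of_mem_fibre φ g hg y hy]
    refine ((genericPoint_spec g.normalization).mem_open_set_iff
      (g.normalization.basicOpen z).isOpen).2 ?_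
    simp only [Set.univ_inter]
    by_contra hc
    rw [Set.not_nonempty_iff_eq_empty] at hc
    exact hz ((AlgebraicGeometry.basicOpen_eq_bot_iff z).1 (TopologicalSpace.Opens.ext hc))
  have hfrac : ∀ a, ∃ p q : Γ(X, U), g.fromNormalization.app U q ≠ 0 ∧
      a * g.fromNormalization.app U q = g.fromNormalization.app U p := fun a => by
    obtain ⟨r, hr⟩ := hφ (e a).1
    obtain ⟨⟨p, q⟩, hpq⟩ := IsLocalization.surj (nonZeroDivisors Γ(X, U)) r
    have hq : φ (algebraMap Γ(X, U) X.functionField q) ≠ 0 := by
      rw [map_ne_zero_iff _ φ.injective, map_ne_zero_iff _ (IsFractionRing.injective Γ(X, U) X.functionField)]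
      exact nonZeroDivisors.ne_zero q.2
    refine ⟨p, q, fun h => hq ?_, e.injective ?_⟩
    · have h' := congrArg (fun z => (e z).1) h
      simp only [map_zero, ZeroMemClass.coe_zero, e] at h'
      rw [sectionsEquiv_app] at h'
      exact h'
    · rw [map_mul, sectionsEquiv_app, sectionsEquiv_app]
      refine Subtype.ext ?_
      have h3 := congrArg φ hpq
      rw [map_mul, hr] at h3
      exact h3
  obtain ⟨a, b, hb, hc⟩ := Eval.exists_evaluation_mul_eq hV (x := y) hyU c
  obtain ⟨pa, qa, hqa, ha⟩ := hfrac a
  obtain ⟨pb, qb, hqb, hb'⟩ := hfrac b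
  have hA := congrArg (g.normalization.evaluation (g.fromNormalization ⁻¹ᵁ U) y hyU) ha
  have hB := congrArg (g.normalization.evaluation (g.fromNormalization ⁻¹ᵁ U) y hyU) hb'
  rw [map_mul, ← Scheme.evaluation_naturality_apply, ← Scheme.evaluation_naturality_apply] at hA hB
  have n1 := hne _ hqa
  have n2 := hne _ hqb
  rw [← Scheme.evaluation_naturality_apply] at n1 n2
  set F := (g.fromNormalization.residueFieldMap y).hom
  refine ⟨X.evaluation U _ hyU pa * X.evaluation U _ hyU qb /
    (X.evaluation U _ hyU qa * X.evaluation U _ hyU pb), ?_⟩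
  show F _ = c
  rw [map_div₀, map_mul, map_mul, ← hA, ← hB, ← hc, div_eq_iff (mul_ne_zero n1 (mul_ne_zero hb n2))]
  ring

end Groth.Agent.Lib.Normalization.InFieldGeneric
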