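import Mathlib.RingTheory.NoetherNormalization
import Mathlib.RingTheory.DedekindDomain.IntegralClosure
import Mathlib.RingTheory.Polynomial.UniqueFactorization
import Mathlib.FieldTheory.PurelyInseparable.Basic
import Mathlib.FieldTheory.Galois.Basic
import Mathlib.FieldTheory.Normal.Closure
import Mathlib.FieldTheory.IsAlgClosed.AlgebraicClosure
import Mathlib.Algebra.MvPolynomial.Expand

/-!
Finiteness of integral closures of finitely generated algebras over a field: Noether normalization,
reduction to a normal extension, the purely inseparable part embeds in a polynomial ring.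
-/

set_option linter.style.haveILetI false

set_option maxHeartbeats 1000000
set_option synthInstance.maxHeartbeats 200000

universe u

open MvPolynomial

namespace Groth.Agent.Lib.Normalization.FiniteField

/-- A purely inseparable finite extension has a uniform exponent. -/
theorem exists_uniform_exponent (F E : Type u) [Field F] [Field E] [Algebra F E] [FiniteDimensional F E]
    [IsPurelyInseparable F E] (q : ℕ) [ExpChar F q] :
    ∃ m : ℕ, ∀ x : E, x ^ q ^ m ∈ (algebraMap F E).range := by
  classical
  obtain ⟨s, hs⟩ := Module.Finite.fg_top (R := F) (M := E)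
  choose e he using fun x : E => IsPurelyInseparable.pow_mem F q x
  refine ⟨s.sup e, fun x => ?_⟩
  haveI : ExpChar E q := expChar_of_injective_algebraMap (algebraMap F E).injective q
  have hx : x ∈ Submodule.span F (s : Set E) := hs ▸ Submodule.mem_top
  induction hx using Submodule.span_induction with
  | mem y hy =>
    obtain ⟨d, hd⟩ := Nat.exists_eq_add_of_le (Finset.le_sup (f := e) hy)
    rw [hd, pow_add, pow_mul]
    exact Subring.pow_mem _ (he y) _
  | zero => exact ⟨0, by rw [map_zero, zero_pow (pow_ne_zero _ (expChar_pos F q).ne')]⟩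
  | add y z _ _ ih ih' => rw [add_pow_expChar_pow]; exact Subring.add_mem _ ih ih'
  | smul c y _ ih =>
    rw [Algebra.smul_def, mul_pow, ← map_pow]
    exact Subring.mul_mem _ ⟨_, rfl⟩ ih

/-- If every coefficient has a `p ^ m`-th root in `R`, the expansion by `p ^ m` is a `p ^ m`-th power. -/
theorem exists_pow_eq_expand {k R : Type u} [CommRing k] [CommRing R] {σ : Type} (p m : ℕ)
    [ExpChar (MvPolynomial σ R) p] (ψ : k →+* R) (f : MvPolynomial σ k)
    (h : ∀ v ∈ f.support, ∃ r : R, r ^ p ^ m = ψ (f.coeff v)) :
    ∃ F : MvPolynomial σ R, expand (p ^ m) (map ψ f) = F ^ p ^ m := by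
  classical
  choose r hr using h
  refine ⟨∑ v : f.support, monomial v.1 (r v.1 v.2), ?_⟩
  rw [sum_pow_char_pow]
  conv_lhs => rw [f.as_sum, ← Finset.sum_coe_sort]
  rw [_root_.map_sum, _root_.map_sum]
  refine Finset.sum_congr rfl fun v _ => ?_
  rw [monomial_pow, map_monomial, expand_monomial, hr]

/-- The integral closure of a polynomial ring over a field in a finite purely inseparable extension of
its fraction field is finite. -/
theorem finite_of_isPurelyInseparable (k : Type u) [Field k] (n : ℕ)
    (M : Type u) [Field M] [Algebra (FractionRing (MvPolynomial (Fin n) k)) M]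
    [FiniteDimensional (FractionRing (MvPolynomial (Fin n) k)) M]
    [IsPurelyInseparable (FractionRing (MvPolynomial (Fin n) k)) M]
    [Algebra (MvPolynomial (Fin n) k) M]
    [IsScalarTower (MvPolynomial (Fin n) k) (FractionRing (MvPolynomial (Fin n) k)) M] :
    Module.Finite (MvPolynomial (Fin n) k) (integralClosure (MvPolynomial (Fin n) k) M) := by
  classical
  set P := MvPolynomial (Fin n) k
  set K₀ := FractionRing P
  set p := ringExpChar k
  haveI : ExpChar k p := inferInstance
  haveI : ExpChar P p := expChar_of_injective_algebraMap (algebraMap k P).injective p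
  haveI : ExpChar K₀ p := expChar_of_injective_algebraMap (IsFractionRing.injective P K₀) p
  obtain ⟨m, hm⟩ := exists_uniform_exponent K₀ M p
  let b := Module.finBasis K₀ M
  choose a ha using fun i => hm (b i)
  choose num den hden hnd using fun i => IsFractionRing.div_surjective P (a i)
  set q := p ^ m with hq
  have hqpos : 0 < q := pow_pos (expChar_pos k p) m
  let coeffs : Set k := ⋃ i, ((num i).coeffs : Set k) ∪ ((den i).coeffs : Set k)
  have hcfin : coeffs.Finite := Set.finite_iUnion fun i => (Finset.finite_toSet _).union (Finset.finite_toSet _)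
  choose root hroot using fun c : k =>
    IsAlgClosed.exists_pow_nat_eq (algebraMap k (AlgebraicClosure k) c) hqpos
  let k' := IntermediateField.adjoin k (root '' coeffs)
  haveI : Finite (root '' coeffs) := (hcfin.image root).to_subtype
  haveI : FiniteDimensional k k' :=
    IntermediateField.finiteDimensional_adjoin fun x _ => Algebra.IsIntegral.isIntegral x
  haveI : ExpChar k' p := expChar_of_injective_algebraMap (algebraMap k k').injective p
  set Q := MvPolynomial (Fin n) k'
  haveI : ExpChar Q p := expChar_of_injective_algebraMap (R := k') (A := Q) (MvPolynomial.C_injective _ _) p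
  let φ : P →+* Q := (MvPolynomial.expand q).toRingHom.comp (MvPolynomial.map (algebraMap k k'))
  have hφX : ∀ i, φ (X i) = X i ^ q := fun i => by
    simp only [φ, RingHom.comp_apply]; erw [map_X, expand_X]
  have hφC : ∀ c, φ (C c) = C (algebraMap k k' c) := fun c => by
    simp only [φ, RingHom.comp_apply]; erw [map_C, expand_C]
  have hφinj : Function.Injective φ :=
    (MvPolynomial.expand_injective hqpos).comp (map_injective _ (algebraMap k k').injective)
  letI : Algebra P Q := φ.toAlgebra
  haveI : IsScalarTower k P Q := .of_algebraMap_eq fun c => by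
    rw [RingHom.algebraMap_toAlgebra]; exact (hφC c).symm
  haveI : Algebra.FiniteType k Q :=
    Algebra.FiniteType.trans (R := k) (S := k') inferInstance inferInstance
  haveI : Algebra.FiniteType P Q := Algebra.FiniteType.of_restrictScalars_finiteType k P Q
  haveI : Algebra.IsIntegral P Q := ⟨fun f => by
    induction f using MvPolynomial.induction_on with
    | C c =>
      have : IsIntegral k (C c : Q) :=
        (Algebra.IsIntegral.isIntegral (R := k) c).map (IsScalarTower.toAlgHom k k' Q)
      exact this.tower_top
    | add f g hf hg => exact hf.add hg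
    | mul_X f i hf =>
      refine hf.mul (IsIntegral.of_pow hqpos ?_)
      rw [← hφX i]
      exact isIntegral_algebraMap (x := (X i : P))⟩
  haveI : Module.Finite P Q := Algebra.IsIntegral.finite
  have hpow : ∀ f : P, (∀ c ∈ f.coeffs, c ∈ coeffs) → ∃ F : Q, φ f = F ^ q := by
    intro f hf
    exact exists_pow_eq_expand p m (algebraMap k k') f fun v hv =>
      ⟨⟨root (f.coeff v), IntermediateField.subset_adjoin k _
        ⟨_, hf _ (coeff_mem_coeffs v (mem_support_iff.1 hv)), rfl⟩⟩, Subtype.ext (hroot _)⟩
  set FQ := FractionRing Q
  letI : Algebra K₀ FQ := (IsFractionRing.lift (g := (algebraMap Q FQ).comp φ)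
    ((IsFractionRing.injective Q FQ).comp hφinj)).toAlgebra
  have hK₀ : ∀ f : P, algebraMap K₀ FQ (algebraMap P K₀ f) = algebraMap Q FQ (φ f) := fun f => by
    rw [RingHom.algebraMap_toAlgebra]; exact IsFractionRing.lift_algebraMap _ f
  haveI : IsScalarTower P K₀ FQ := .of_algebraMap_eq fun f => (hK₀ f).symm
  haveI : ExpChar FQ p := expChar_of_injective_algebraMap (IsFractionRing.injective Q FQ) p
  have hsplit : ∀ i, ((minpoly K₀ (b i)).map (algebraMap K₀ FQ)).Splits := by
    intro i
    obtain ⟨F, hF⟩ := hpow (num i) fun c hc => Set.mem_iUnion.2 ⟨i, .inl hc⟩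
    obtain ⟨G, hG⟩ := hpow (den i) fun c hc => Set.mem_iUnion.2 ⟨i, .inr hc⟩
    have hai : algebraMap K₀ FQ (a i) = (algebraMap Q FQ F / algebraMap Q FQ G) ^ q := by
      rw [← hnd i, map_div₀, hK₀, hK₀, hF, hG, map_pow, map_pow, div_pow]
    have hdvd : minpoly K₀ (b i) ∣ Polynomial.X ^ q - Polynomial.C (a i) := by
      refine minpoly.dvd _ _ ?_
      rw [map_sub, map_pow, Polynomial.aeval_X, Polynomial.aeval_C, ha i]
      exact sub_self _
    have heq : (Polynomial.X ^ q - Polynomial.C (a i)).map (algebraMap K₀ FQ) =
        (Polynomial.X - Polynomial.C (algebraMap Q FQ F / algebraMap Q FQ G)) ^ q := by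
      rw [Polynomial.map_sub, Polynomial.map_pow, Polynomial.map_X, Polynomial.map_C, hai, hq,
        sub_pow_expChar_pow, ← Polynomial.C_pow]
    refine Polynomial.Splits.of_dvd ?_ ?_ (Polynomial.map_dvd _ hdvd)
    · rw [heq]; exact (Polynomial.Splits.X_sub_C _).pow q
    · exact Polynomial.map_ne_zero (Polynomial.X_pow_sub_C_ne_zero hqpos _)
  have hadj : IntermediateField.adjoin K₀ (Set.range b) = ⊤ := eq_top_iff.2 fun x _ => by
    rw [← b.sum_repr x]
    exact sum_mem fun i _ => IntermediateField.smul_mem _
      (IntermediateField.subset_adjoin _ _ (Set.mem_range_self i))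
  obtain ⟨ψ⟩ := IntermediateField.nonempty_algHom_of_adjoin_splits (F := K₀) (E := M) (K := FQ)
    (S := Set.range b) (by rintro _ ⟨i, rfl⟩; exact ⟨Algebra.IsIntegral.isIntegral _, hsplit i⟩) hadj
  let ψ' : M →ₐ[P] FQ := ψ.restrictScalars P
  haveI : IsScalarTower P Q FQ := inferInstance
  have hrange : ∀ x : integralClosure P M,
      ψ' x ∈ LinearMap.range (IsScalarTower.toAlgHom P Q FQ).toLinearMap := by
    intro x
    have : IsIntegral Q (ψ' x) := (x.2.map ψ').tower_top
    have hU : UniqueFactorizationMonoid Q := inferInstance
    have hQ : IsIntegrallyClosed Q := inferInstance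
    obtain ⟨y, hy⟩ := (IsIntegrallyClosed.isIntegral_iff (R := Q) (K := FQ)).1 this
    exact ⟨y, hy⟩
  let g : integralClosure P M →ₗ[P] LinearMap.range (IsScalarTower.toAlgHom P Q FQ).toLinearMap :=
    (ψ'.toLinearMap.comp (integralClosure P M).val.toLinearMap).codRestrict _ hrange
  refine Module.Finite.of_injective g fun x y hxy => ?_
  exact Subtype.ext (ψ'.toRingHom.injective (congrArg Subtype.val hxy :))

/-- Finite normal extensions of the fraction field of a polynomial ring over a field. -/
theorem finite_of_normal (k : Type u) [Field k] (n : ℕ)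
    (N : Type u) [Field N] [Algebra (FractionRing (MvPolynomial (Fin n) k)) N]
    [FiniteDimensional (FractionRing (MvPolynomial (Fin n) k)) N]
    [Normal (FractionRing (MvPolynomial (Fin n) k)) N]
    [Algebra (MvPolynomial (Fin n) k) N]
    [IsScalarTower (MvPolynomial (Fin n) k) (FractionRing (MvPolynomial (Fin n) k)) N] :
    Module.Finite (MvPolynomial (Fin n) k) (integralClosure (MvPolynomial (Fin n) k) N) := by
  classical
  set P := MvPolynomial (Fin n) k
  set K₀ := FractionRing P
  set M := IntermediateField.fixedField (⊤ : Subgroup Gal(N/K₀))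
  haveI : IsGalois M N := IsGalois.of_fixed_field N (⊤ : Subgroup Gal(N/K₀))
  haveI : IsPurelyInseparable K₀ M := by
    rw [isPurelyInseparable_iff_natSepDegree_eq_one]
    · intro x
      have hmin : minpoly K₀ x = minpoly K₀ (x : N) :=
        (minpoly.algHom_eq M.val Subtype.val_injective x).symm
      rw [hmin]
      have hx : IsIntegral K₀ (x : N) := Algebra.IsIntegral.isIntegral _
      rw [Polynomial.natSepDegree_eq_of_splits (E := N) _ (Normal.splits inferInstance (x : N))]
      rw [Finset.card_eq_one]
      refine ⟨(x : N), ?_⟩
      ext y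
      rw [Multiset.mem_toFinset, Finset.mem_singleton, Polynomial.mem_aroots]
      refine ⟨fun ⟨_, hy⟩ => ?_, fun h => by subst h; exact ⟨minpoly.ne_zero hx, minpoly.aeval _ _⟩⟩
      have he : minpoly K₀ (x : N) = minpoly K₀ y :=
        minpoly.eq_of_irreducible_of_monic (minpoly.irreducible hx) hy (minpoly.monic hx)
      obtain ⟨σ, hσ⟩ := (Normal.minpoly_eq_iff_mem_orbit (F := K₀) (E := N)).1 he.symm
      rw [← hσ]
      exact x.2 ⟨σ, trivial⟩
  haveI : Module.Finite P (integralClosure P M) := finite_of_isPurelyInseparable k n M
  set P' := integralClosure P M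
  haveI : IsNoetherianRing P' := isNoetherianRing_iff.mpr (isNoetherian_of_tower P inferInstance)
  haveI : IsFractionRing P' M := integralClosure.isFractionRing_of_finite_extension K₀ M
  haveI : IsIntegrallyClosed P' := integralClosure.isIntegrallyClosedOfFiniteExtension K₀
  haveI : IsScalarTower P M N := .of_algebraMap_eq fun x => by
    rw [IsScalarTower.algebraMap_apply P K₀ N, IsScalarTower.algebraMap_apply P K₀ M,
      ← IsScalarTower.algebraMap_apply K₀ M N]
  haveI : Module.Finite P' (integralClosure P' N) :=
    IsIntegralClosure.finite P' M N (integralClosure P' N)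
  haveI : Module.Finite P (integralClosure P' N) := Module.Finite.trans P' _
  haveI : IsNoetherian P (integralClosure P' N) := inferInstance
  let g : integralClosure P N →ₗ[P] integralClosure P' N :=
    { toFun := fun x => ⟨x, x.2.tower_top⟩
      map_add' := fun x y => rfl
      map_smul' := fun c x => rfl }
  exact Module.Finite.of_injective g fun x y hxy => Subtype.ext (congrArg Subtype.val hxy :)

/-- Finite extensions of the fraction field of a polynomial ring over a field. -/
theorem finite_mvPolynomial (k : Type u) [Field k] (n : ℕ)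
    (L : Type u) [Field L] [Algebra (FractionRing (MvPolynomial (Fin n) k)) L]
    [FiniteDimensional (FractionRing (MvPolynomial (Fin n) k)) L]
    [Algebra (MvPolynomial (Fin n) k) L]
    [IsScalarTower (MvPolynomial (Fin n) k) (FractionRing (MvPolynomial (Fin n) k)) L] :
    Module.Finite (MvPolynomial (Fin n) k) (integralClosure (MvPolynomial (Fin n) k) L) := by
  set P := MvPolynomial (Fin n) k
  set K₀ := FractionRing P
  let Ω := AlgebraicClosure K₀
  let ι : L →ₐ[K₀] Ω := IsAlgClosed.lift
  set N := IntermediateField.normalClosure K₀ L Ω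
  let ι' : L →ₐ[K₀] N := ι.codRestrict N.toSubalgebra fun x => ι.fieldRange_le_normalClosure ⟨x, rfl⟩
  haveI : Module.Finite P (integralClosure P N) := finite_of_normal k n N
  let g : integralClosure P L →ₗ[P] integralClosure P N :=
    { toFun := fun x => ⟨ι' x, x.2.map (ι'.restrictScalars P)⟩
      map_add' := fun x y => Subtype.ext (map_add ι' (x : L) y)
      map_smul' := fun c x => Subtype.ext (map_smul (ι'.restrictScalars P) c (x : L)) }
  exact Module.Finite.of_injective g fun x y hxy =>
    Subtype.ext (ι'.toRingHom.injective (congrArg Subtype.val hxy :))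

/-- A domain of finite type over a field has finite integral closure in any finite extension of its
fraction field. -/
theorem finite_integralClosure (k A K L : Type u) [Field k] [CommRing A] [IsDomain A]
    [Algebra k A] [Algebra.FiniteType k A] [Field K] [Field L] [Algebra A K] [IsFractionRing A K]
    [Algebra K L] [FiniteDimensional K L] [Algebra A L] [IsScalarTower A K L] :
    Module.Finite A (integralClosure A L) := by
  classical
  obtain ⟨n, g, hginj, hgfin⟩ := exists_finite_inj_algHom_of_fg k A
  set P := MvPolynomial (Fin n) k
  letI : Algebra P A := g.toRingHom.toAlgebra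
  haveI : Module.Finite P A := hgfin
  letI : Algebra P K := ((algebraMap A K).comp (algebraMap P A)).toAlgebra
  haveI : IsScalarTower P A K := .of_algebraMap_eq' rfl
  letI : Algebra P L := ((algebraMap A L).comp (algebraMap P A)).toAlgebra
  haveI : IsScalarTower P A L := .of_algebraMap_eq' rfl
  haveI : IsScalarTower P K L := .of_algebraMap_eq fun x => by
    rw [IsScalarTower.algebraMap_apply P A L, IsScalarTower.algebraMap_apply P A K,
      ← IsScalarTower.algebraMap_apply A K L]
  have hinj : Function.Injective (algebraMap P K) :=
    (IsFractionRing.injective A K).comp hginj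
  set K₀ := FractionRing P
  letI : Algebra K₀ K := (IsFractionRing.lift (g := algebraMap P K) hinj).toAlgebra
  haveI : IsScalarTower P K₀ K :=
    .of_algebraMap_eq fun x => (IsFractionRing.lift_algebraMap hinj x).symm
  haveI : FiniteDimensional K₀ K := by
    obtain ⟨s, hs⟩ := Module.Finite.fg_top (R := P) (M := A)
    let S : Subalgebra K₀ K := Algebra.adjoin K₀ (algebraMap A K '' (s : Set A))
    have hint : ∀ x ∈ algebraMap A K '' (s : Set A), IsIntegral K₀ x := by
      rintro _ ⟨x, -, rfl⟩
      exact ((Algebra.IsIntegral.isIntegral (R := P) x).map (IsScalarTower.toAlgHom P A K)).tower_top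
    haveI : FiniteDimensional K₀ S :=
      Module.Finite.iff_fg.2 (fg_adjoin_of_finite (s.finite_toSet.image _) hint)
    have hA : ∀ x : A, algebraMap A K x ∈ S := fun x => by
      have hx : x ∈ Submodule.span P (s : Set A) := hs ▸ Submodule.mem_top
      induction hx using Submodule.span_induction with
      | mem y hy => exact Algebra.subset_adjoin ⟨y, hy, rfl⟩
      | zero => rw [map_zero]; exact S.zero_mem
      | add y z _ _ hy hz => rw [map_add]; exact S.add_mem hy hz
      | smul c y _ hy =>
        rw [Algebra.smul_def, map_mul, ← IsScalarTower.algebraMap_apply P A K,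
          IsScalarTower.algebraMap_apply P K₀ K]
        exact S.mul_mem (S.algebraMap_mem _) hy
    have htop : S = ⊤ := eq_top_iff.2 fun z _ => by
      obtain ⟨x, y, hy, rfl⟩ := IsFractionRing.div_surjective A z
      rw [div_eq_mul_inv]
      refine S.mul_mem (hA x) ?_
      exact S.inv_mem_of_algebraic (x := ⟨_, hA y⟩)
        (Algebra.IsAlgebraic.isAlgebraic (R := K₀) (⟨_, hA y⟩ : S) |>.algebraMap)
    exact Module.Finite.equiv ((Subalgebra.equivOfEq _ _ htop).trans Subalgebra.topEquiv).toLinearEquiv
  letI : Algebra K₀ L := ((algebraMap K L).comp (algebraMap K₀ K)).toAlgebra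
  haveI : IsScalarTower K₀ K L := .of_algebraMap_eq' rfl
  haveI : IsScalarTower P K₀ L := .of_algebraMap_eq fun x => by
    rw [IsScalarTower.algebraMap_apply P K L, IsScalarTower.algebraMap_apply K₀ K L,
      ← IsScalarTower.algebraMap_apply P K₀ K]
  haveI : FiniteDimensional K₀ L := Module.Finite.trans K L
  haveI : Module.Finite P (integralClosure P L) := finite_mvPolynomial k n L
  haveI : Algebra.IsIntegral P A := inferInstance
  let e : integralClosure A L →ₗ[P] integralClosure P L :=
    { toFun := fun x => ⟨x, isIntegral_trans (R := P) (A := A) (x : L) x.2⟩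
      map_add' := fun x y => rfl
      map_smul' := fun c x => rfl }
  haveI : Module.Finite P (integralClosure A L) :=
    Module.Finite.of_injective e fun x y hxy => Subtype.ext (congrArg Subtype.val hxy :)
  exact Module.Finite.of_restrictScalars_finite P A _

end Groth.Agent.Lib.Normalization.FiniteField
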