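import Groth.Prelude.Def_Pi1
import Groth.Agent.Lib.SchTopo.Basic
import Mathlib.AlgebraicGeometry.Normalization
import Mathlib.AlgebraicGeometry.FunctionField
import Mathlib.AlgebraicGeometry.Morphisms.Finite
import Mathlib.AlgebraicGeometry.Properties
import Mathlib.RingTheory.IntegralClosure.IntegrallyClosed

/-!
# Normalization of an integral scheme in an extension field of its function field
-/

set_option autoImplicit false
set_option linter.style.haveILetI false

universe u

open CategoryTheory AlgebraicGeometry TopologicalSpace

namespace Groth.Agent.Lib.Normalization.InField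

open Groth.Agent.Lib.SchTopo.Basic

theorem map_appLE_ΓSpecIso {A B : CommRingCat.{u}} (ψ : A ⟶ B) (U : (Spec A).Opens)
    (e : ⊤ ≤ Spec.map ψ ⁻¹ᵁ U) :
    (Spec A).presheaf.map (homOfLE (le_top : U ≤ ⊤)).op ≫ (Spec.map ψ).appLE U ⊤ e ≫
      (Scheme.ΓSpecIso B).hom = (Scheme.ΓSpecIso A).hom ≫ ψ := by
  rw [Scheme.Hom.map_appLE_assoc, ← Scheme.ΓSpecIso_naturality, Scheme.Hom.appLE]
  congr 1

variable {X : Scheme.{u}} [IsIntegral X] {K : Type u} [Field K] (φ : X.functionField →+* K)
  (g : Spec (CommRingCat.of K) ⟶ X)
  (hg : g = Spec.map (CommRingCat.ofHom φ) ≫ X.fromSpecStalk (genericPoint X))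

include hg

theorem apply_eq (y : ↥(Spec (CommRingCat.of K))) : g y = genericPoint X := by
  subst hg
  have h : (Spec.map (CommRingCat.ofHom φ) ≫ X.fromSpecStalk (genericPoint X)) y ⤳ genericPoint X := by
    have := Set.mem_range_self (f := X.fromSpecStalk (genericPoint X)) (Spec.map (CommRingCat.ofHom φ) y)
    rwa [Scheme.range_fromSpecStalk] at this
  exact h.antisymm (genericPoint_specializes _) |>.eq

theorem preimage_eq_top (U : X.Opens) [Nonempty U] : g ⁻¹ᵁ U = ⊤ := by
  refine eq_top_iff.2 fun y _ => ?_
  show g y ∈ U
  rw [apply_eq φ g hg]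
  exact ((genericPoint_spec X).mem_open_set_iff U.isOpen).mpr (by simpa using ‹Nonempty U›)

/-- Sections of `Spec K` over the preimage of a nonempty open. -/
noncomputable def genEquiv (U : X.Opens) [Nonempty U] :
    Γ(Spec (CommRingCat.of K), g ⁻¹ᵁ U) ≃+* K :=
  ((Spec (CommRingCat.of K)).presheaf.mapIso (eqToIso (preimage_eq_top φ g hg U).symm).op ≪≫
    Scheme.ΓSpecIso (CommRingCat.of K)).commRingCatIsoToRingEquiv

theorem genEquiv_app (U : X.Opens) [Nonempty U] (a : Γ(X, U)) :
    genEquiv φ g hg U (g.app U a) = φ (X.germToFunctionField U a) := by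
  have hη : genericPoint X ∈ U :=
    ((genericPoint_spec X).mem_open_set_iff U.isOpen).mpr (by simpa using ‹Nonempty U›)
  have key : ∀ e, g.appLE U ⊤ e ≫ (Scheme.ΓSpecIso (CommRingCat.of K)).hom =
      X.germToFunctionField U ≫ CommRingCat.ofHom φ := by
    subst hg
    intro e
    rw [Scheme.Hom.comp_appLE, Scheme.fromSpecStalk_app hη]
    simp only [Category.assoc]
    refine Eq.trans (congrArg (fun t => X.presheaf.germ U _ hη ≫ (Scheme.ΓSpecIso _).inv ≫ t)
      (map_appLE_ΓSpecIso (A := X.presheaf.stalk (genericPoint X)) (CommRingCat.ofHom φ)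
        ((X.fromSpecStalk (genericPoint X)) ⁻¹ᵁ U) e)) ?_
    exact congrArg (X.presheaf.germ U _ hη ≫ ·) (Iso.inv_hom_id_assoc _ _)
  have h : g.app U ≫
      (Spec (CommRingCat.of K)).presheaf.map (eqToHom (preimage_eq_top φ g hg U).symm).op ≫
        (Scheme.ΓSpecIso (CommRingCat.of K)).hom =
          X.germToFunctionField U ≫ CommRingCat.ofHom φ := by
    rw [← Category.assoc]
    exact key (preimage_eq_top φ g hg U).ge
  exact DFunLike.congr_fun (congrArg CommRingCat.Hom.hom h) a

variable [QuasiCompact g] [QuasiSeparated g]

omit hg [IsIntegral X] in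
theorem isIntegral_normalization : IsIntegral g.normalization := inferInstance

theorem surjective_fromNormalization : Function.Surjective g.fromNormalization := by
  have hr : DenseRange g.fromNormalization := fun x => by
    refine closure_mono (s := ({genericPoint X} : Set X)) ?_ ?_
    · rw [Set.singleton_subset_iff]
      refine ⟨g.toNormalization (IsLocalRing.closedPoint K), ?_⟩
      erw [← Scheme.Hom.comp_apply, Scheme.Hom.toNormalization_fromNormalization]
      exact apply_eq φ g hg _
    · rw [(genericPoint_spec X).def]; trivial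
  have hc : IsClosed (Set.range g.fromNormalization) := g.fromNormalization.isClosedMap.isClosed_range
  exact Set.range_eq_univ.1 (hc.closure_eq ▸ hr.closure_range)

theorem fromNormalization_genericPoint :
    haveI := isIntegral_normalization g
    g.fromNormalization (genericPoint g.normalization) = genericPoint X := by
  haveI := isIntegral_normalization g
  obtain ⟨y, hy⟩ := surjective_fromNormalization φ g hg (genericPoint X)
  refine (Specializes.antisymm ?_ (genericPoint_specializes _)).eq
  rw [← hy]
  exact (genericPoint_specializes y).map g.fromNormalization.continuous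

theorem nonempty_preimage (U : X.Opens) [Nonempty U] :
    Nonempty (g.fromNormalization ⁻¹ᵁ U) := by
  obtain ⟨x, hx⟩ := ‹Nonempty U›
  obtain ⟨y, rfl⟩ := surjective_fromNormalization φ g hg x
  exact ⟨⟨y, hx⟩⟩

omit hg [QuasiCompact g] [QuasiSeparated g] in
/-- The algebra structure on `K` over the sections of a nonempty open. -/
@[reducible] noncomputable def algebraK (φ : X.functionField →+* K) (U : X.Opens) [Nonempty U] : Algebra Γ(X, U) K :=
  (φ.comp (X.germToFunctionField U).hom).toAlgebra

/-- Sections of the normalization over the preimage of an affine open are the integral closure. -/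
noncomputable def sectionsEquiv {U : X.Opens} (hU : IsAffineOpen U) [Nonempty U] :
    letI := algebraK φ U
    Γ(g.normalization, g.fromNormalization ⁻¹ᵁ U) ≃+* integralClosure Γ(X, U) K :=
  letI := algebraK φ U
  letI := (g.app U).hom.toAlgebra
  (g.normalizationObjIso hU).commRingCatIsoToRingEquiv.trans
    (AlgEquiv.mapIntegralClosure (AlgEquiv.ofRingEquiv (f := genEquiv φ g hg U)
      (fun a => genEquiv_app φ g hg U a))).toRingEquiv

theorem sectionsEquiv_app {U : X.Opens} (hU : IsAffineOpen U) [Nonempty U] (a : Γ(X, U)) :
    letI := algebraK φ U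
    sectionsEquiv φ g hg hU (g.fromNormalization.app U a) = algebraMap _ _ a := by
  let := algebraK φ U
  let := (g.app U).hom.toAlgebra
  apply Subtype.ext
  show genEquiv φ g hg U ((g.normalizationObjIso hU).hom (g.fromNormalization.app U a)).1 =
    φ (X.germToFunctionField U a)
  rw [Scheme.Hom.fromNormalization_app _ hU]
  simp only [CommRingCat.comp_apply, CategoryTheory.Iso.inv_hom_id_apply]
  exact genEquiv_app φ g hg U a

omit hg [IsIntegral X] [QuasiCompact g] [QuasiSeparated g] in
/-- The integral closure of any ring in a field is integrally closed. -/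
theorem isIntegrallyClosed_integralClosure (R K : Type u) [CommRing R] [Field K] [Algebra R K] :
    IsIntegrallyClosed (integralClosure R K) := by
  rw [isIntegrallyClosed_iff (FractionRing (integralClosure R K))]
  intro x hx
  let B := integralClosure R K
  have hinj : Function.Injective (algebraMap B K) := Subtype.val_injective
  let ψ : FractionRing B →ₐ[B] K := IsFractionRing.liftAlgHom (g := Algebra.ofId B K) hinj
  have h1 : IsIntegral B (ψ x) := hx.map ψ
  have h2 : IsIntegral R (ψ x) := isIntegral_trans (R := R) (A := B) _ h1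
  exact ⟨⟨ψ x, h2⟩, ψ.toRingHom.injective (ψ.commutes ⟨ψ x, h2⟩)⟩

theorem isNormalScheme : Pi1.IsNormalScheme g.normalization := by
  haveI := isIntegral_normalization g
  refine fun y => ⟨inferInstance, ?_⟩
  obtain ⟨_, ⟨U, hU, rfl⟩, hxU, -⟩ := X.isBasis_affineOpens.exists_subset_of_mem_open
    (Set.mem_univ (g.fromNormalization y)) isOpen_univ
  replace hU : IsAffineOpen U := hU
  haveI : Nonempty U := ⟨⟨_, hxU⟩⟩
  let := algebraK φ U
  haveI := isIntegrallyClosed_integralClosure Γ(X, U) K
  haveI : IsIntegrallyClosed Γ(g.normalization, g.fromNormalization ⁻¹ᵁ U) :=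
    IsIntegrallyClosed.of_equiv (sectionsEquiv φ g hg hU).symm
  have hV : IsAffineOpen (g.fromNormalization ⁻¹ᵁ U) := hU.preimage _
  haveI : Nonempty (g.fromNormalization ⁻¹ᵁ U) := ⟨⟨y, hxU⟩⟩
  let := TopCat.Presheaf.algebra_section_stalk g.normalization.presheaf
    (⟨y, hxU⟩ : (g.fromNormalization ⁻¹ᵁ U))
  have hloc := hV.isLocalization_stalk ⟨y, hxU⟩
  exact isIntegrallyClosed_of_isLocalization _ _
    ((hV.primeIdealOf ⟨y, hxU⟩).asIdeal.primeCompl_le_nonZeroDivisors)

/-- Finiteness from module-finiteness of the integral closures. -/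
theorem isFinite (h : ∀ (U : X.Opens) (_ : Nonempty U), IsAffineOpen U →
      letI := algebraK φ U
      Module.Finite Γ(X, U) (integralClosure Γ(X, U) K)) :
    IsFinite g.fromNormalization := by
  refine ⟨fun U hU => ?_⟩
  rcases isEmpty_or_nonempty U with hE | hE
  · refine RingHom.Finite.of_surjective _ ?_
    have : U = ⊥ := by
      ext y
      exact ⟨fun hy => (hE.false ⟨y, hy⟩).elim, fun hy => hy.elim⟩
    subst this
    have : Subsingleton Γ(g.normalization, g.fromNormalization ⁻¹ᵁ ⊥) :=
      inferInstanceAs (Subsingleton Γ(g.normalization, ⊥))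
    exact Function.surjective_to_subsingleton _
  · let := algebraK φ U
    have e : (g.fromNormalization.app U).hom = (sectionsEquiv φ g hg hU).symm.toRingHom.comp
        (algebraMap Γ(X, U) (integralClosure Γ(X, U) K)) := by
      ext a
      apply (sectionsEquiv φ g hg hU).injective
      show _ = sectionsEquiv φ g hg hU ((sectionsEquiv φ g hg hU).symm _)
      rw [RingEquiv.apply_symm_apply]
      exact sectionsEquiv_app φ g hg hU a
    rw [e]
    exact (RingHom.Finite.of_surjective _ (sectionsEquiv φ g hg hU).symm.surjective).comp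
      (RingHom.finite_algebraMap.2 (h U hE hU))

/-- Stalk dimension at a point over a point with one-dimensional stalk. -/
theorem ringKrullDim_stalk_eq_one (y : ↥g.normalization)
    (h : ringKrullDim (X.presheaf.stalk (g.fromNormalization y)) = 1) :
    ringKrullDim (g.normalization.presheaf.stalk y) = 1 := by
  haveI := isIntegral_normalization g
  rw [ringKrullDim_stalk_eq_coheight] at h ⊢
  have hmono : StrictMono (fun z : ↥g.normalization => g.fromNormalization z) := fun a b hab => by
    have hab' : b ⤳ a := hab.le
    refine lt_of_le_not_ge (hab'.map g.fromNormalization.continuous) fun hge => hab.not_ge ?_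
    have := (hab'.map g.fromNormalization.continuous).antisymm hge
    exact (isIntegralHom_eq_of_specializes _ hab' this.eq).symm ▸ le_rfl
  have h1 : Order.coheight y ≤ 1 := by
    have := Order.coheight_le_coheight_apply_of_strictMono _ hmono y
    rw [show Order.coheight (g.fromNormalization y) = 1 by exact_mod_cast h] at this
    exact this
  have hne : y ≠ genericPoint g.normalization := by
    rintro rfl
    rw [fromNormalization_genericPoint φ g hg] at h
    have htop : IsMax (genericPoint X) := fun z _ => genericPoint_specializes z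
    rw [Order.coheight_eq_zero.2 htop] at h
    simp at h
  have h2 : Order.coheight y ≠ 0 := fun h0 => hne (by
    have hm := Order.coheight_eq_zero.1 h0
    exact (Specializes.antisymm (hm (genericPoint_specializes y : y ≤ genericPoint g.normalization))
      (genericPoint_specializes y)).eq)
  have : Order.coheight y = 1 := le_antisymm h1 (Order.one_le_iff_ne_zero.2 h2)
  rw [this]; rfl

end Groth.Agent.Lib.Normalization.InField
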