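import Groth.Prelude.Def_Curv2
import Groth.Agent.Lib.Normalization.InField
import Groth.Agent.Lib.Normalization.FiniteField
import Mathlib.AlgebraicGeometry.Morphisms.FiniteType

/-!
# Finiteness of normalizations over a field
-/

set_option autoImplicit false
set_option linter.style.haveILetI false

universe u

open CategoryTheory AlgebraicGeometry TopologicalSpace

namespace Groth.Agent.Lib.Normalization.InFieldVariety

theorem isFinite_of_locallyOfFiniteType (k : Type u) [Field k] (X : Scheme.{u})
    [X.Over (Spec (CommRingCat.of k))] [IsIntegral X]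
    [LocallyOfFiniteType (X ↘ (Spec (CommRingCat.of k)))] (K : Type u) [Field K]
    (φ : X.functionField →+* K) (hφ : φ.Finite) (g : Spec (CommRingCat.of K) ⟶ X)
    (hg : g = Spec.map (CommRingCat.ofHom φ) ≫ X.fromSpecStalk (genericPoint X))
    [QuasiCompact g] [QuasiSeparated g] : IsFinite g.fromNormalization := by
  refine InField.isFinite φ g hg fun U _ hU => ?_
  let := InField.algebraK φ U
  let f := X ↘ (Spec (CommRingCat.of k))
  let ρ : k →+* Γ(X, U) := (f.appLE ⊤ U (by simp)).hom.comp
    (Scheme.ΓSpecIso (CommRingCat.of k)).inv.hom
  let : Algebra k Γ(X, U) := ρ.toAlgebra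
  haveI : Algebra.FiniteType k Γ(X, U) :=
    RingHom.FiniteType.comp (f.finiteType_appLE (isAffineOpen_top _) hU (by simp))
      (RingHom.FiniteType.of_surjective _ (ConcreteCategory.bijective_of_isIso
        (Scheme.ΓSpecIso (CommRingCat.of k)).inv).2)
  haveI := functionField_isFractionRing_of_isAffineOpen X U hU
  let : Algebra X.functionField K := φ.toAlgebra
  haveI : FiniteDimensional X.functionField K := hφ
  haveI : IsScalarTower Γ(X, U) X.functionField K := .of_algebraMap_eq fun a => rfl
  exact FiniteField.finite_integralClosure k Γ(X, U) X.functionField K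

theorem isFinite_normalizationι (k : Type u) [Field k] (X : Scheme.{u})
    [X.Over (Spec (CommRingCat.of k))] [IsIntegral X]
    [LocallyOfFiniteType (X ↘ (Spec (CommRingCat.of k)))]
    [QuasiCompact (X.fromSpecStalk (genericPoint X))] [QuasiSeparated (X.fromSpecStalk (genericPoint X))] :
    IsFinite (Curv2.normalizationι X) :=
  isFinite_of_locallyOfFiniteType k X X.functionField (RingHom.id _) (RingHom.Finite.id _)
    (X.fromSpecStalk (genericPoint X))
    (by
      show _ = Spec.map (𝟙 X.functionField) ≫ X.fromSpecStalk (genericPoint X)
      rw [Spec.map_id, Category.id_comp])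

end Groth.Agent.Lib.Normalization.InFieldVariety
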