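import Groth.Prelude.Def_Found
import Groth.Agent.S6333
import Groth.Agent.Lib.Excellent.Nagata
import Groth.Agent.Lib.Normalization.Eval
import Mathlib.AlgebraicGeometry.Normalization
import Mathlib.AlgebraicGeometry.Morphisms.Finite
import Mathlib.AlgebraicGeometry.Morphisms.FiniteType
import Mathlib.AlgebraicGeometry.Properties
import Mathlib.AlgebraicGeometry.Noetherian

/-!
# Finiteness of the relative normalization of a Nagata scheme in a reduced scheme
-/

set_option autoImplicit false
set_option linter.style.haveILetI false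

universe u

open CategoryTheory AlgebraicGeometry TopologicalSpace

namespace Groth.Agent.Lib.Normalization.Relative

/-- The integral closure of a Nagata ring in a field essentially of finite type over it is finite. -/
theorem finite_integralClosure_field {R κ : Type u} [CommRing R] [Field κ] [Algebra R κ]
    (hR : CAlg.IsNagata R) [Algebra.EssFiniteType R κ] :
    Module.Finite R (integralClosure R κ) := by
  classical
  let p : Ideal R := RingHom.ker (algebraMap R κ)
  haveI : p.IsPrime := RingHom.ker_isPrime _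
  let A := R ⧸ p
  letI : Algebra A κ := (Ideal.Quotient.lift p (algebraMap R κ) fun _ h => h).toAlgebra
  haveI : IsScalarTower R A κ := .of_algebraMap_eq fun _ => rfl
  haveI : FaithfulSMul A κ := (faithfulSMul_iff_algebraMap_injective A κ).2
    (RingHom.lift_injective_of_ker_le_ideal p (fun _ h => h) le_rfl)
  letI : Algebra (FractionRing A) κ := FractionRing.liftAlgebra A κ
  haveI : IsScalarTower A (FractionRing A) κ := FractionRing.isScalarTower_liftAlgebra A κ
  haveI : IsScalarTower R (FractionRing A) κ := .of_algebraMap_eq fun x => by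
    rw [IsScalarTower.algebraMap_apply R A κ, IsScalarTower.algebraMap_apply R A (FractionRing A),
      ← IsScalarTower.algebraMap_apply A (FractionRing A) κ]
  haveI : Algebra.EssFiniteType (FractionRing A) κ := Algebra.EssFiniteType.of_comp R _ κ
  have hfg : (⊤ : IntermediateField (FractionRing A) κ).FG :=
    IntermediateField.fg_top_iff.mpr inferInstance
  haveI := Groth.Agent.S6333.result hfg
  let L := algebraicClosure (FractionRing A) κ
  haveI : Module.Finite A (integralClosure A L) :=
    Groth.Agent.Lib.Excellent.Nagata.finite_integralClosure_of_isN2 (hR.2 p) (FractionRing A) L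
  haveI : IsScalarTower R A L := .of_algebraMap_eq fun x => Subtype.ext (IsScalarTower.algebraMap_apply R A κ x)
  haveI : Module.Finite R (integralClosure A L) := Module.Finite.trans A _
  haveI := hR.1
  haveI : IsScalarTower A L κ := .of_algebraMap_eq fun _ => rfl
  have hmem : ∀ x : integralClosure R κ, (x : κ) ∈ L := fun x =>
    mem_algebraicClosure_iff.2 x.2.tower_top.isAlgebraic
  let g : integralClosure R κ →ₗ[R] integralClosure A L :=
    { toFun := fun x => ⟨⟨x, hmem x⟩,
        (isIntegral_algHom_iff (IsScalarTower.toAlgHom A L κ) (algebraMap L κ).injective).1 x.2.tower_top⟩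
      map_add' := fun x y => Subtype.ext (Subtype.ext rfl)
      map_smul' := fun c x => Subtype.ext (Subtype.ext rfl) }
  exact Module.Finite.of_injective g fun x y h =>
    Subtype.ext (congrArg (fun t : integralClosure A L => ((t : L) : κ)) h)

theorem essFiniteType_evaluation {X : Scheme.{u}} {U : X.Opens} (hU : IsAffineOpen U) (x : X)
    (hx : x ∈ U) : (X.evaluation U x hx).hom.EssFiniteType := by
  let := TopCat.Presheaf.algebra_section_stalk X.presheaf (⟨x, hx⟩ : U)
  haveI := hU.isLocalization_stalk ⟨x, hx⟩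
  haveI : Algebra.EssFiniteType Γ(X, U) (X.presheaf.stalk x) :=
    Algebra.EssFiniteType.of_isLocalization _ (hU.primeIdealOf ⟨x, hx⟩).asIdeal.primeCompl
  letI : Algebra (X.presheaf.stalk x) (X.residueField x) := (X.residue x).hom.toAlgebra
  letI : Algebra Γ(X, U) (X.residueField x) := (X.evaluation U x hx).hom.toAlgebra
  haveI : IsScalarTower Γ(X, U) (X.presheaf.stalk x) (X.residueField x) := .of_algebraMap_eq' rfl
  haveI : Algebra.EssFiniteType (X.presheaf.stalk x) (X.residueField x) :=
    (RingHom.FiniteType.of_surjective _ (X.residue_surjective x)).essFiniteType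
  exact Algebra.EssFiniteType.comp _ (X.presheaf.stalk x) _

theorem essFiniteType_comp {A B C : Type u} [CommRing A] [CommRing B] [CommRing C] {f : A →+* B}
    {g : B →+* C} (hf : f.EssFiniteType) (hg : g.EssFiniteType) : (g.comp f).EssFiniteType := by
  algebraize [f, g, g.comp f]
  haveI : Algebra.EssFiniteType A B := hf
  haveI : Algebra.EssFiniteType B C := hg
  exact Algebra.EssFiniteType.comp A B C

theorem essFiniteType_of_comp {A B C : Type u} [CommRing A] [CommRing B] [CommRing C] (f : A →+* B)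
    (g : B →+* C) (h : (g.comp f).EssFiniteType) : g.EssFiniteType := by
  algebraize [f, g, g.comp f]
  haveI : Algebra.EssFiniteType A C := h
  exact Algebra.EssFiniteType.of_comp A B C

variable {X S : Scheme.{u}} (f : X ⟶ S) [QuasiCompact f] [QuasiSeparated f]

theorem module_finite_integralClosure [IsReduced X] {U : S.Opens} (hU : IsAffineOpen U)
    (hS : CAlg.IsNagata Γ(S, U))
    (hfin : LocallyFinite (fun Z : ↥(irreducibleComponents ↥X) => (Z : Set ↥X)))
    (hres : ∀ x : X, closure {x} ∈ irreducibleComponents ↥X → (f.residueFieldMap x).hom.EssFiniteType) :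
    letI := (f.app U).hom.toAlgebra
    Module.Finite Γ(S, U) (integralClosure Γ(S, U) Γ(X, f ⁻¹ᵁ U)) := by
  classical
  letI := (f.app U).hom.toAlgebra
  haveI := hS.1
  let T := {x : X // x ∈ f ⁻¹ᵁ U ∧ closure {x} ∈ irreducibleComponents ↥X}
  haveI : Finite T := by
    have hc : IsCompact ((f ⁻¹ᵁ U : X.Opens) : Set X) := f.isCompact_preimage hU.isCompact
    haveI := (hfin.finite_nonempty_inter_compact hc).to_subtype
    refine Finite.of_injective (β := {Z : ↥(irreducibleComponents ↥X) |
      ((Z : Set ↥X) ∩ ((f ⁻¹ᵁ U : X.Opens) : Set X)).Nonempty})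
      (fun x => ⟨⟨closure {x.1}, x.2.2⟩, x.1, subset_closure rfl, x.2.1⟩) fun x y h => ?_
    have h' : closure ({x.1} : Set X) = closure {y.1} := congrArg (fun Z => (Z.1 : Set X)) h
    exact Subtype.ext (inseparable_iff_closure_eq.2 h').eq
  letI algT : ∀ x : T, Algebra Γ(S, U) (X.residueField x.1) := fun x =>
    ((X.evaluation (f ⁻¹ᵁ U) x.1 x.2.1).hom.comp (f.app U).hom).toAlgebra
  haveI hT : ∀ x : T, Module.Finite Γ(S, U) (integralClosure Γ(S, U) (X.residueField x.1)) := fun x => by
    haveI : Algebra.EssFiniteType Γ(S, U) (X.residueField x.1) := by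
      have e : (X.evaluation (f ⁻¹ᵁ U) x.1 x.2.1).hom.comp (f.app U).hom =
          (f.residueFieldMap x.1).hom.comp (S.evaluation U (f x.1) x.2.1).hom := by
        exact congrArg CommRingCat.Hom.hom (Scheme.evaluation_naturality f x.1 x.2.1).symm
      show ((X.evaluation (f ⁻¹ᵁ U) x.1 x.2.1).hom.comp (f.app U).hom).EssFiniteType
      rw [e]
      exact essFiniteType_comp (essFiniteType_evaluation hU _ x.2.1) (hres x.1 x.2.2)
    exact finite_integralClosure_field hS
  let ev : ∀ x : T, Γ(X, f ⁻¹ᵁ U) →ₐ[Γ(S, U)] X.residueField x.1 := fun x =>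
    { toRingHom := (X.evaluation (f ⁻¹ᵁ U) x.1 x.2.1).hom
      commutes' := fun _ => rfl }
  let g : integralClosure Γ(S, U) Γ(X, f ⁻¹ᵁ U) →ₗ[Γ(S, U)]
      (∀ x : T, integralClosure Γ(S, U) (X.residueField x.1)) :=
    { toFun := fun s x => ⟨ev x s, s.2.map (ev x)⟩
      map_add' := fun a b => funext fun x => Subtype.ext (map_add (ev x) (a : Γ(X, f ⁻¹ᵁ U)) b)
      map_smul' := fun c a => funext fun x => Subtype.ext (map_smul (ev x) c (a : Γ(X, f ⁻¹ᵁ U))) }
  refine Module.Finite.of_injective g ((injective_iff_map_eq_zero g).2 fun s hs => Subtype.ext ?_)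
  refine eq_zero_of_basicOpen_eq_bot (s : Γ(X, f ⁻¹ᵁ U)) (Opens.ext (Set.eq_empty_iff_forall_notMem.2
    fun z hz => ?_))
  obtain ⟨Z, hZ, hzZ⟩ : ∃ Z ∈ irreducibleComponents ↥X, z ∈ Z :=
    ⟨irreducibleComponent z, irreducibleComponent_mem_irreducibleComponents z, mem_irreducibleComponent⟩
  obtain ⟨x, hx⟩ := QuasiSober.sober hZ.1 (isClosed_of_mem_irreducibleComponents Z hZ)
  have hxz : x ⤳ z := specializes_iff_mem_closure.2 (hx.def.symm ▸ hzZ)
  have hxb : x ∈ X.basicOpen (s : Γ(X, f ⁻¹ᵁ U)) := hxz.mem_open (X.basicOpen _).isOpen hz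
  have hxV : x ∈ f ⁻¹ᵁ U := X.basicOpen_le _ hxb
  have h0 := congrArg Subtype.val (congrFun hs ⟨x, hxV, hx.def.symm ▸ hZ⟩)
  exact (Scheme.evaluation_eq_zero_iff_notMem_basicOpen _ x hxV _).1 h0 hxb

theorem isFinite_fromNormalization [IsReduced X] (hS : ∀ U : S.affineOpens, CAlg.IsNagata Γ(S, U))
    (hfin : LocallyFinite (fun Z : ↥(irreducibleComponents ↥X) => (Z : Set ↥X)))
    (hres : ∀ x : X, closure {x} ∈ irreducibleComponents ↥X → (f.residueFieldMap x).hom.EssFiniteType) :
    IsFinite f.fromNormalization := by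
  refine ⟨fun U hU => ?_⟩
  let := (f.app U).hom.toAlgebra
  have h := module_finite_integralClosure f hU (hS ⟨U, hU⟩) hfin hres
  rw [Scheme.Hom.fromNormalization_app _ hU]
  exact (RingHom.Finite.of_surjective _
    (ConcreteCategory.bijective_of_isIso (f.normalizationObjIso hU).inv).2).comp
    (RingHom.finite_algebraMap.2 h)

theorem locallyFinite_irreducibleComponents [LocallyOfFiniteType f]
    (hS : ∀ U : S.affineOpens, CAlg.IsNagata Γ(S, U)) :
    LocallyFinite (fun Z : ↥(irreducibleComponents ↥X) => (Z : Set ↥X)) := by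
  haveI : IsLocallyNoetherian S := ⟨fun U => (hS U).1⟩
  haveI : IsLocallyNoetherian X := LocallyOfFiniteType.isLocallyNoetherian f
  intro z
  obtain ⟨_, ⟨W, hW, rfl⟩, hzW, -⟩ :=
    X.isBasis_affineOpens.exists_subset_of_mem_open (Set.mem_univ z) isOpen_univ
  replace hW : IsAffineOpen W := hW
  refine ⟨W, W.isOpen.mem_nhds hzW, ?_⟩
  haveI := IsLocallyNoetherian.component_noetherian (X := X) ⟨W, hW⟩
  haveI : CompactSpace ↥(W : Scheme.{u}) := isCompact_iff_compactSpace.1 hW.isCompact
  haveI : IsNoetherian (W : Scheme.{u}) := ⟨⟩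
  have hfin : (irreducibleComponents ↥(W : Scheme.{u})).Finite := TopologicalSpace.NoetherianSpace.finite_irreducibleComponents
  refine Set.Finite.of_finite_image (f := fun Z : ↥(irreducibleComponents ↥X) =>
    ((↑) : ↥W → X) ⁻¹' (Z : Set ↥X)) (hfin.subset ?_) ?_
  · rintro _ ⟨⟨Z, hZ⟩, ⟨w, hwZ, hwW⟩, rfl⟩
    exact preimage_mem_irreducibleComponents hZ W.isOpen.isOpenEmbedding_subtypeVal
      ⟨w, hwZ, ⟨w, hwW⟩, rfl⟩
  · rintro ⟨Z, hZ⟩ ⟨w, hwZ, hwW⟩ ⟨Z', hZ'⟩ ⟨w', hwZ', hwW'⟩ h
    have hcl : ∀ T ∈ irreducibleComponents ↥X, (T ∩ (W : Set X)).Nonempty →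
        closure (T ∩ (W : Set X)) = T := fun T hT hne =>
      Set.Subset.antisymm ((closure_mono Set.inter_subset_left).trans
        (isClosed_of_mem_irreducibleComponents T hT).closure_subset)
        (subset_closure_inter_of_isPreirreducible_of_isOpen hT.1.2 W.isOpen hne)
    refine Subtype.ext ?_
    show Z = Z'
    rw [← hcl Z hZ ⟨w, hwZ, hwW⟩, ← hcl Z' hZ' ⟨w', hwZ', hwW'⟩]
    have h2 := congrArg (Set.image ((↑) : ↥W → X)) h
    simp only [Set.image_preimage_eq_range_inter, Subtype.range_coe_subtype] at h2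
    rw [Set.inter_comm Z, Set.inter_comm Z']
    exact congrArg closure h2

theorem essFiniteType_residueFieldMap [LocallyOfFiniteType f] (x : X) :
    (f.residueFieldMap x).hom.EssFiniteType := by
  obtain ⟨_, ⟨U, hU, rfl⟩, hxU, -⟩ :=
    S.isBasis_affineOpens.exists_subset_of_mem_open (Set.mem_univ (f x)) isOpen_univ
  replace hU : IsAffineOpen U := hU
  obtain ⟨_, ⟨W, hW, rfl⟩, hxW, hWU⟩ :=
    X.isBasis_affineOpens.exists_subset_of_mem_open (show x ∈ f ⁻¹ᵁ U from hxU) (f ⁻¹ᵁ U).isOpen
  replace hW : IsAffineOpen W := hW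
  have e : (f.residueFieldMap x).hom.comp (S.evaluation U (f x) hxU).hom =
      (X.evaluation W x hxW).hom.comp (f.appLE U W hWU).hom := by
    rw [← CommRingCat.hom_comp, ← CommRingCat.hom_comp, Scheme.evaluation_naturality]
    delta Scheme.Hom.appLE
    rw [Category.assoc]
    congr 2
    exact (X.presheaf.germ_res_assoc (homOfLE hWU) x hxW (X.residue x)).symm
  refine essFiniteType_of_comp (S.evaluation U (f x) hxU).hom _ ?_
  rw [e]
  exact essFiniteType_comp (f.finiteType_appLE hU hW hWU).essFiniteType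
    (essFiniteType_evaluation hW x hxW)

end Groth.Agent.Lib.Normalization.Relative
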