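import Groth.Agent.Lib.Normalization.Basic
import Groth.Agent.Lib.SemiLocalDimOne.KrullAkizuki
import Groth.Agent.Lib.SchTopo.Basic
import Mathlib.AlgebraicGeometry.Noetherian
import Mathlib.AlgebraicGeometry.Properties
import Mathlib.RingTheory.LocalProperties.Basic
import Mathlib.RingTheory.LocalRing.Quotient

/-!
# Normalization of integral Noetherian schemes of dimension one
-/

set_option autoImplicit false
set_option linter.style.haveILetI false

universe u

open CategoryTheory AlgebraicGeometry TopologicalSpace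

namespace Groth.Agent.Lib.Normalization.DimOne

open Groth.Agent.Lib.Normalization.Basic Groth.Agent.Lib.Normalization.Eval
open Groth.Agent.Lib.SemiLocalDimOne

theorem krullDimLE_sections {X : Scheme.{u}} (hdim : topologicalKrullDim X ≤ 1) {U : X.Opens}
    (hU : IsAffineOpen U) : Ring.KrullDimLE 1 Γ(X, U) := by
  rw [Ring.krullDimLE_iff, ← PrimeSpectrum.topologicalKrullDim_eq_ringKrullDim]
  exact (hU.fromSpec.isOpenEmbedding.isInducing.topologicalKrullDim_le).trans (by simpa using hdim)

variable (X : Scheme.{u}) [IsIntegral X] [IsLocallyNoetherian X]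
  [QuasiCompact (X.fromSpecStalk (genericPoint X))]
  [QuasiSeparated (X.fromSpecStalk (genericPoint X))]

/-- For a nonempty affine open: the ring facts about its preimage. -/
theorem sections_facts (hdim : topologicalKrullDim X ≤ 1) {U : X.Opens} (hU : IsAffineOpen U)
    [Nonempty U] :
    IsNoetherianRing Γ(Curv2.normalization X, (Curv2.normalizationι X) ⁻¹ᵁ U) ∧
      IsIntegrallyClosed Γ(Curv2.normalization X, (Curv2.normalizationι X) ⁻¹ᵁ U) := by
  have := IsLocallyNoetherian.component_noetherian (X := X) ⟨U, hU⟩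
  have := krullDimLE_sections hdim hU
  have := functionField_isFractionRing_of_isAffineOpen X U hU
  have := KrullAkizuki.isNoetherianRing_subalgebra (integralClosure Γ(X, U) X.functionField)
  have := KrullAkizuki.isDedekindDomain_integralClosure (R := Γ(X, U)) (K := X.functionField)
  exact ⟨isNoetherianRing_of_ringEquiv _ (sectionsEquiv X hU).symm,
    IsIntegrallyClosed.of_equiv (sectionsEquiv X hU).symm⟩

/-- Ring version: residue rings of the integral closure at nonzero primes are finite and only
finitely many primes lie over a given one. -/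
theorem closure_prime_facts {A K : Type u} [CommRing A] [IsDomain A] [IsNoetherianRing A]
    [Ring.KrullDimLE 1 A] [Field K] [Algebra A K] [IsFractionRing A K] :
    (∀ Q : Ideal (integralClosure A K), Q.IsPrime → Q ≠ ⊥ →
      Module.Finite A (integralClosure A K ⧸ Q)) ∧
    ∀ p : Ideal A, p.IsPrime →
      {Q : Ideal (integralClosure A K) | Q.IsPrime ∧ Q.comap (algebraMap A _) = p}.Finite := by
  classical
  refine ⟨fun Q hQ hQ0 => ?_, fun p hp => ?_⟩
  · obtain ⟨a, haQ, ha⟩ := (Submodule.ne_bot_iff _).1 hQ0
    obtain ⟨r, hr, hra⟩ := KrullAkizuki.exists_ne_zero_mem _ ha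
    have hle : Ideal.span {algebraMap A (integralClosure A K) r} ≤ Q :=
      Ideal.span_le.2 (Set.singleton_subset_iff.2
        ((Ideal.span_le.2 (Set.singleton_subset_iff.2 haQ)) hra))
    have := (isFiniteLength_iff_isNoetherian_isArtinian.1
      (KrullAkizuki.isFiniteLength_quotient (integralClosure A K) hr)).1
    exact Module.Finite.of_surjective (Ideal.Quotient.factorₐ A hle).toLinearMap
      (Ideal.Quotient.factor_surjective hle)
  · by_cases hp0 : p = ⊥
    · refine (Set.finite_singleton ⊥).subset ?_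
      rintro Q ⟨hQ, hQp⟩
      by_contra hne
      obtain ⟨a, haQ, ha⟩ := (Submodule.ne_bot_iff _).1 hne
      obtain ⟨r, hr, hra⟩ := KrullAkizuki.exists_ne_zero_mem _ ha
      have : r ∈ Q.comap (algebraMap A _) := (Ideal.span_le.2 (Set.singleton_subset_iff.2 haQ)) hra
      rw [hQp, hp0] at this
      exact hr this
    · obtain ⟨r, hrp, hr⟩ := (Submodule.ne_bot_iff _).1 hp0
      have := KrullAkizuki.isArtinianRing_quotient (integralClosure A K) hr
      refine Set.Finite.subset (Set.finite_range
        fun m : PrimeSpectrum (integralClosure A K ⧸ Ideal.span {algebraMap A _ r}) =>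
          m.asIdeal.comap (Ideal.Quotient.mk _)) ?_
      rintro Q ⟨hQ, hQp⟩
      have hle : Ideal.span {algebraMap A (integralClosure A K) r} ≤ Q := by
        rw [Ideal.span_le, Set.singleton_subset_iff]
        exact (hQp.ge hrp : r ∈ Q.comap (algebraMap A _))
      refine ⟨⟨Q.map (Ideal.Quotient.mk _), Ideal.map_isPrime_of_surjective
        Ideal.Quotient.mk_surjective (by rwa [Ideal.mk_ker])⟩, ?_⟩
      show (Q.map (Ideal.Quotient.mk _)).comap (Ideal.Quotient.mk _) = Q
      rw [Ideal.comap_map_of_surjective _ Ideal.Quotient.mk_surjective, ← RingHom.ker_eq_comap_bot,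
        Ideal.mk_ker, sup_eq_left.2 hle]

theorem exists_preimage_of_frac {K L : Type u} [Field K] [Field L] (φ : K →+* L) {A B c : L}
    {pa qa pb qb : K} (hA : A * φ qa = φ pa) (hB : B * φ qb = φ pb) (hc : c * B = A) (hb : B ≠ 0)
    (n1 : φ qa ≠ 0) (n2 : φ qb ≠ 0) : ∃ d, φ d = c := by
  refine ⟨pa * qb / (qa * pb), ?_⟩
  rw [map_div₀, map_mul, map_mul, ← hA, ← hB, ← hc, div_eq_iff (mul_ne_zero n1 (mul_ne_zero hb n2))]
  ring

theorem finite_fibre (hdim : topologicalKrullDim X ≤ 1) (x : X) :
    Finite {x' : ↥(Curv2.normalization X) // (Curv2.normalizationι X).base x' = x} := by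
  obtain ⟨_, ⟨U, hU, rfl⟩, hxU, -⟩ :=
    X.isBasis_affineOpens.exists_subset_of_mem_open (Set.mem_univ x) isOpen_univ
  replace hU : IsAffineOpen U := hU
  have : Nonempty U := ⟨⟨x, hxU⟩⟩
  have := IsLocallyNoetherian.component_noetherian (X := X) ⟨U, hU⟩
  have := krullDimLE_sections hdim hU
  have := functionField_isFractionRing_of_isAffineOpen X U hU
  let ν := Curv2.normalizationι X
  have hV : IsAffineOpen (ν ⁻¹ᵁ U) := isAffineOpen_preimage X hU
  let e : Γ(Curv2.normalization X, ν ⁻¹ᵁ U) ≃+* integralClosure Γ(X, U) X.functionField :=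
    sectionsEquiv X hU
  let p := (hU.primeIdealOf ⟨x, hxU⟩).asIdeal
  have hfin := (closure_prime_facts (A := Γ(X, U)) (K := X.functionField)).2 p inferInstance
  have hmem : ∀ x' : {x' // ν.base x' = x}, x'.1 ∈ ν ⁻¹ᵁ U := fun x' => by
    show ν x'.1 ∈ U
    rw [show ν x'.1 = x from x'.2]; exact hxU
  have : Finite {Q : Ideal (integralClosure Γ(X, U) X.functionField) //
      Q.IsPrime ∧ Q.comap (algebraMap Γ(X, U) _) = p} := hfin.to_subtype
  refine Finite.of_injective (β := {Q : Ideal (integralClosure Γ(X, U) X.functionField) //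
      Q.IsPrime ∧ Q.comap (algebraMap Γ(X, U) _) = p})
    (fun x' => ⟨(hV.primeIdealOf ⟨x'.1, hmem x'⟩).asIdeal.comap e.symm, inferInstance, ?_⟩) ?_
  · ext a
    obtain ⟨x', hx'⟩ := x'
    subst hx'
    have ha : e.symm (algebraMap _ _ a) = ν.app U a :=
      e.injective (by rw [e.apply_symm_apply]; exact (sectionsEquiv_app X hU a).symm)
    rw [Ideal.mem_comap, Ideal.mem_comap, mem_primeIdealOf_iff, ha,
      mem_primeIdealOf_iff]
    exact (congrArg (· = 0) (Scheme.evaluation_naturality_apply ν x' hxU a).symm).to_iff.trans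
      (map_eq_zero _)
  · intro a b hab
    have h0 := congrArg Subtype.val hab
    have h1 : (hV.primeIdealOf ⟨a.1, hmem a⟩).asIdeal = (hV.primeIdealOf ⟨b.1, hmem b⟩).asIdeal := by
      ext z
      have hz := SetLike.ext_iff.1 h0 (e z)
      rw [Ideal.mem_comap, Ideal.mem_comap, e.symm_apply_apply] at hz
      exact hz
    have h2 : hV.primeIdealOf ⟨a.1, hmem a⟩ = hV.primeIdealOf ⟨b.1, hmem b⟩ := PrimeSpectrum.ext h1
    have h3 := congrArg hV.fromSpec h2
    rw [hV.fromSpec_primeIdealOf, hV.fromSpec_primeIdealOf] at h3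
    exact Subtype.ext h3

theorem residueField_finite (hdim : topologicalKrullDim X ≤ 1) (x' : ↥(Curv2.normalization X)) :
    ((Curv2.normalizationι X).residueFieldMap x').hom.Finite := by
  let ν := Curv2.normalizationι X
  obtain ⟨_, ⟨U, hU, rfl⟩, hxU, -⟩ :=
    X.isBasis_affineOpens.exists_subset_of_mem_open (Set.mem_univ (ν x')) isOpen_univ
  replace hU : IsAffineOpen U := hU
  have : Nonempty U := ⟨⟨_, hxU⟩⟩
  have := IsLocallyNoetherian.component_noetherian (X := X) ⟨U, hU⟩
  have := krullDimLE_sections hdim hU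
  have := functionField_isFractionRing_of_isAffineOpen X U hU
  have hV : IsAffineOpen (ν ⁻¹ᵁ U) := isAffineOpen_preimage X hU
  let e : Γ(Curv2.normalization X, ν ⁻¹ᵁ U) ≃+* integralClosure Γ(X, U) X.functionField :=
    sectionsEquiv X hU
  let P := (hV.primeIdealOf ⟨x', hxU⟩).asIdeal
  by_cases hP : P = ⊥
  · -- the generic point
    refine RingHom.Finite.of_surjective _ fun c => ?_
    obtain ⟨a, b, hb, hc⟩ := exists_evaluation_mul_eq hV (x := x') hxU c
    have hfrac : ∀ a, ∃ p q : Γ(X, U), ν.app U q ≠ 0 ∧ a * ν.app U q = ν.app U p := fun a => by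
      obtain ⟨⟨p, q⟩, hpq⟩ := IsLocalization.surj (nonZeroDivisors Γ(X, U)) (e a).1
      refine ⟨p, q, fun h => ?_, e.injective ?_⟩
      · have h' := congrArg (fun z => (e z).1) h
        simp only [map_zero, ZeroMemClass.coe_zero] at h'
        rw [sectionsEquiv_app] at h'
        exact nonZeroDivisors.ne_zero q.2
          ((IsFractionRing.injective Γ(X, U) X.functionField) (h'.trans (map_zero _).symm))
      · rw [map_mul, sectionsEquiv_app, sectionsEquiv_app]
        exact Subtype.ext hpq
    have hne : ∀ z : Γ(Curv2.normalization X, ν ⁻¹ᵁ U), z ≠ 0 →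
        (Curv2.normalization X).evaluation (ν ⁻¹ᵁ U) x' hxU z ≠ 0 := fun z hz h => hz (by
      have := (mem_primeIdealOf_iff hV hxU z).2 h
      rw [show (hV.primeIdealOf ⟨x', hxU⟩).asIdeal = ⊥ from hP] at this
      exact this)
    obtain ⟨pa, qa, hqa, ha⟩ := hfrac a
    obtain ⟨pb, qb, hqb, hb'⟩ := hfrac b
    have hA := congrArg ((Curv2.normalization X).evaluation (ν ⁻¹ᵁ U) x' hxU) ha
    have hB := congrArg ((Curv2.normalization X).evaluation (ν ⁻¹ᵁ U) x' hxU) hb'
    rw [map_mul, ← Scheme.evaluation_naturality_apply, ← Scheme.evaluation_naturality_apply] at hA hB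
    have n1 := hne _ hqa
    have n2 := hne _ hqb
    rw [← Scheme.evaluation_naturality_apply] at n1 n2
    exact exists_preimage_of_frac (ν.residueFieldMap x').hom hA hB hc hb n1 n2
  · have hQ : P.comap e.symm.toRingHom ≠ ⊥ := fun h => hP (by
      have := congrArg (Ideal.comap e.toRingHom) h
      rw [Ideal.comap_comap, e.symm_toRingHom_comp_toRingHom, Ideal.comap_id] at this
      rw [this, ← RingHom.ker_eq_comap_bot]
      exact (RingHom.injective_iff_ker_eq_bot _).1 e.injective)
    have hfin := (closure_prime_facts (A := Γ(X, U)) (K := X.functionField)).1 _ inferInstance hQ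
    have := KrullAkizuki.dimensionLEOne_subalgebra (integralClosure Γ(X, U) X.functionField)
    have hmax : P.IsMaximal := by
      have hQm : (P.comap e.symm.toRingHom).IsMaximal :=
        KrullAkizuki.isMaximal_of_prime _ _ hQ
      have := Ideal.comap_isMaximal_of_surjective e.toRingHom e.surjective
        (K := P.comap e.symm.toRingHom)
      rwa [Ideal.comap_comap, e.symm_toRingHom_comp_toRingHom, Ideal.comap_id] at this
    refine residueFieldMap_finite ν (V := U) (x := x') hxU ?_
    let ev := ((Curv2.normalization X).evaluation (ν ⁻¹ᵁ U) x' hxU).hom.comp e.symm.toRingHom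
    have hev : Function.Surjective ev :=
      (evaluation_surjective_of_isMaximal hV hxU hmax).comp e.symm.surjective
    have hker : RingHom.ker ev = P.comap e.symm.toRingHom := by
      rw [← RingHom.comap_ker, ker_evaluation hV hxU]
    have heq : ((Curv2.normalization X).evaluation (ν ⁻¹ᵁ U) x' hxU).hom.comp (ν.app U).hom =
        ((RingHom.quotientKerEquivOfSurjective hev).toRingHom.comp
          (Ideal.quotEquivOfEq hker.symm).toRingHom).comp
          (algebraMap Γ(X, U) (integralClosure Γ(X, U) X.functionField ⧸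
            P.comap e.symm.toRingHom)) := by
      ext a
      show _ = ev (algebraMap _ _ a)
      show _ = (Curv2.normalization X).evaluation (ν ⁻¹ᵁ U) x' hxU (e.symm (algebraMap _ _ a))
      rw [show e.symm (algebraMap _ _ a) = ν.app U a from
        e.injective (by rw [e.apply_symm_apply]; exact (sectionsEquiv_app X hU a).symm)]
      rfl
    rw [heq]
    refine RingHom.Finite.comp (RingHom.Finite.of_surjective _ ?_) (RingHom.finite_algebraMap.2 hfin)
    exact (RingHom.quotientKerEquivOfSurjective hev).surjective.comp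
      (Ideal.quotEquivOfEq hker.symm).surjective

theorem isLocallyNoetherian_normalization (hdim : topologicalKrullDim X ≤ 1) :
    IsLocallyNoetherian (Curv2.normalization X) := by
  let S := {U : X.affineOpens // Nonempty (U : X.Opens)}
  refine isLocallyNoetherian_of_affine_cover
    (S := fun U : S => ⟨(Curv2.normalizationι X) ⁻¹ᵁ (U.1 : X.Opens),
      isAffineOpen_preimage X U.1.2⟩) ?_ fun U => ?_
  · refine eq_top_iff.2 fun y _ => ?_
    obtain ⟨_, ⟨U, hU, rfl⟩, hxU, -⟩ := X.isBasis_affineOpens.exists_subset_of_mem_open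
      (Set.mem_univ ((Curv2.normalizationι X) y)) isOpen_univ
    exact Opens.mem_iSup.2 ⟨⟨⟨U, hU⟩, ⟨⟨_, hxU⟩⟩⟩, hxU⟩
  · have := U.2
    exact (sections_facts X hdim U.1.2).1

theorem isIntegrallyClosed_stalk (hdim : topologicalKrullDim X ≤ 1)
    (y : ↥(Curv2.normalization X)) :
    IsIntegrallyClosed ((Curv2.normalization X).presheaf.stalk y) := by
  obtain ⟨_, ⟨U, hU, rfl⟩, hxU, -⟩ := X.isBasis_affineOpens.exists_subset_of_mem_open
    (Set.mem_univ ((Curv2.normalizationι X) y)) isOpen_univ
  replace hU : IsAffineOpen U := hU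
  have : Nonempty U := ⟨⟨_, hxU⟩⟩
  have := (sections_facts X hdim hU).2
  have hV := isAffineOpen_preimage X hU
  have : Nonempty ((Curv2.normalizationι X) ⁻¹ᵁ U) := ⟨⟨y, hxU⟩⟩
  let := TopCat.Presheaf.algebra_section_stalk (Curv2.normalization X).presheaf
    (⟨y, hxU⟩ : ((Curv2.normalizationι X) ⁻¹ᵁ U))
  have hloc := hV.isLocalization_stalk ⟨y, hxU⟩
  exact isIntegrallyClosed_of_isLocalization _ _
    ((hV.primeIdealOf ⟨y, hxU⟩).asIdeal.primeCompl_le_nonZeroDivisors)

theorem isDedekindDomain_sections (hdim : topologicalKrullDim X ≤ 1)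
    {V : (Curv2.normalization X).Opens} (hV : IsAffineOpen V) [Nonempty V] :
    IsDedekindDomain Γ(Curv2.normalization X, V) := by
  have := isLocallyNoetherian_normalization X hdim
  have := IsLocallyNoetherian.component_noetherian (X := Curv2.normalization X) ⟨V, hV⟩
  have hd : topologicalKrullDim ↥(Curv2.normalization X) ≤ 1 :=
    (Groth.Agent.Lib.SchTopo.Basic.topologicalKrullDim_le_of_specializes_eq
      (Curv2.normalizationι X) fun a b h e =>
        Groth.Agent.Lib.SchTopo.Basic.isIntegralHom_eq_of_specializes _ h e).trans hdim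
  have := krullDimLE_sections hd hV
  have : Ring.DimensionLEOne Γ(Curv2.normalization X, V) :=
    ⟨fun hp h => Ring.krullDimLE_one_iff_of_noZeroDivisors.1 ‹_› _ hp h⟩
  have : IsIntegrallyClosed Γ(Curv2.normalization X, V) := by
    refine IsIntegrallyClosed.of_localization_maximal fun p _ hp => ?_
    let y : ↥(Curv2.normalization X) := hV.fromSpec ⟨p, hp.isPrime⟩
    have hy : y ∈ V := hV.range_fromSpec.le (Set.mem_range_self _)
    let := TopCat.Presheaf.algebra_section_stalk (Curv2.normalization X).presheaf (⟨y, hy⟩ : V)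
    have hloc : IsLocalization.AtPrime ((Curv2.normalization X).presheaf.stalk y) p := by
      have h := hV.isLocalization_stalk' ⟨p, hp.isPrime⟩ hy
      exact h
    have := isIntegrallyClosed_stalk X hdim y
    exact IsIntegrallyClosed.of_equiv
      (IsLocalization.algEquiv p.primeCompl ((Curv2.normalization X).presheaf.stalk y)
        (Localization.AtPrime p)).toRingEquiv
  exact { }

end Groth.Agent.Lib.Normalization.DimOne
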