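import Groth.Prelude.Def_Curv2
import Groth.Agent.Lib.Normalization.Eval
import Mathlib.AlgebraicGeometry.FunctionField
import Mathlib.RingTheory.IntegralClosure.IntegrallyClosed

/-!
# The normalization of an integral scheme on affine opens
-/

set_option autoImplicit false

universe u

open CategoryTheory AlgebraicGeometry TopologicalSpace

namespace Groth.Agent.Lib.Normalization.Basic

variable (X : Scheme.{u}) [IsIntegral X]

/-- The generic point lies in every nonempty open. -/
theorem genericPoint_mem (U : X.Opens) [Nonempty U] : genericPoint X ∈ U :=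
  ((genericPoint_spec X).mem_open_set_iff U.isOpen).mpr (by simpa using ‹Nonempty U›)

theorem preimage_fromSpecStalk_eq_top (U : X.Opens) [Nonempty U] :
    (X.fromSpecStalk (genericPoint X)) ⁻¹ᵁ U = ⊤ := by
  refine eq_top_iff.2 fun y _ => ?_
  show X.fromSpecStalk (genericPoint X) y ∈ U
  have h : X.fromSpecStalk (genericPoint X) y ⤳ genericPoint X := by
    have := Set.mem_range_self (f := X.fromSpecStalk (genericPoint X)) y
    rwa [Scheme.range_fromSpecStalk] at this
  exact h.mem_open U.isOpen (genericPoint_mem X U)

/-- Sections of `Spec K` over the preimage of a nonempty open. -/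
noncomputable def genEquiv (U : X.Opens) [Nonempty U] :
    Γ(Spec X.functionField, (X.fromSpecStalk (genericPoint X)) ⁻¹ᵁ U) ≃+* X.functionField :=
  ((Spec X.functionField).presheaf.mapIso
      (eqToIso (preimage_fromSpecStalk_eq_top X U).symm).op ≪≫
    Scheme.ΓSpecIso X.functionField).commRingCatIsoToRingEquiv

theorem genEquiv_app (U : X.Opens) [Nonempty U] (a : Γ(X, U)) :
    genEquiv X U ((X.fromSpecStalk (genericPoint X)).app U a) = X.germToFunctionField U a := by
  have h : (X.fromSpecStalk (genericPoint X)).app U ≫
      (Spec X.functionField).presheaf.map (eqToHom (preimage_fromSpecStalk_eq_top X U).symm).op ≫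
        (Scheme.ΓSpecIso X.functionField).hom = X.germToFunctionField U := by
    rw [Scheme.fromSpecStalk_app (genericPoint_mem X U), Category.assoc, Category.assoc,
      ← Functor.map_comp_assoc, Subsingleton.elim
        ((homOfLE (le_top (a := X.fromSpecStalk (genericPoint X) ⁻¹ᵁ U))).op ≫
          (eqToHom (preimage_fromSpecStalk_eq_top X U).symm).op) (𝟙 _),
      CategoryTheory.Functor.map_id, Category.id_comp, Iso.inv_hom_id, Category.comp_id]
  exact DFunLike.congr_fun (congrArg CommRingCat.Hom.hom h) a

variable [QuasiCompact (X.fromSpecStalk (genericPoint X))]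
  [QuasiSeparated (X.fromSpecStalk (genericPoint X))]

instance isIntegralHom_normalizationι : IsIntegralHom (Curv2.normalizationι X) :=
  inferInstanceAs (IsIntegralHom (X.fromSpecStalk (genericPoint X)).fromNormalization)

instance isIntegral_normalization : IsIntegral (Curv2.normalization X) :=
  inferInstanceAs (IsIntegral (X.fromSpecStalk (genericPoint X)).normalization)

theorem surjective_normalizationι : Function.Surjective (Curv2.normalizationι X) := by
  have hd : IsDominant ((X.fromSpecStalk (genericPoint X)).toNormalization ≫
      Curv2.normalizationι X) := by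
    show IsDominant ((X.fromSpecStalk (genericPoint X)).toNormalization ≫
      (X.fromSpecStalk (genericPoint X)).fromNormalization)
    rw [Scheme.Hom.toNormalization_fromNormalization]
    refine ⟨fun x => ?_⟩
    refine closure_mono (s := ({genericPoint X} : Set X)) ?_ ?_
    · rw [Set.singleton_subset_iff, Scheme.range_fromSpecStalk]
      exact specializes_rfl
    · rw [(genericPoint_spec X).def]; trivial
  have hr : DenseRange (Curv2.normalizationι X) := by
    refine hd.1.mono ?_
    rintro _ ⟨y, rfl⟩
    exact ⟨_, rfl⟩
  have hc : IsClosed (Set.range (Curv2.normalizationι X)) :=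
    (Curv2.normalizationι X).isClosedMap.isClosed_range
  exact Set.range_eq_univ.1 (hc.closure_eq ▸ hr.closure_range)

theorem isAffineOpen_preimage {U : X.Opens} (hU : IsAffineOpen U) :
    IsAffineOpen ((Curv2.normalizationι X) ⁻¹ᵁ U) :=
  hU.preimage (Curv2.normalizationι X)

theorem nonempty_preimage (U : X.Opens) [Nonempty U] :
    Nonempty ((Curv2.normalizationι X) ⁻¹ᵁ U) := by
  obtain ⟨x, hx⟩ := ‹Nonempty U›
  obtain ⟨y, rfl⟩ := surjective_normalizationι X x
  exact ⟨⟨y, hx⟩⟩

/-- Sections of the normalization over the preimage of an affine open are the integral closure in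
the function field. -/
noncomputable def sectionsEquiv {U : X.Opens} (hU : IsAffineOpen U) [Nonempty U] :
    Γ(Curv2.normalization X, (Curv2.normalizationι X) ⁻¹ᵁ U) ≃+*
      integralClosure Γ(X, U) X.functionField :=
  letI := ((X.fromSpecStalk (genericPoint X)).app U).hom.toAlgebra
  ((X.fromSpecStalk (genericPoint X)).normalizationObjIso hU).commRingCatIsoToRingEquiv.trans
    (AlgEquiv.mapIntegralClosure (AlgEquiv.ofRingEquiv (f := genEquiv X U)
      (fun a => genEquiv_app X U a))).toRingEquiv

theorem sectionsEquiv_app {U : X.Opens} (hU : IsAffineOpen U) [Nonempty U] (a : Γ(X, U)) :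
    sectionsEquiv X hU ((Curv2.normalizationι X).app U a) = algebraMap _ _ a := by
  let := ((X.fromSpecStalk (genericPoint X)).app U).hom.toAlgebra
  apply Subtype.ext
  show genEquiv X U (((X.fromSpecStalk (genericPoint X)).normalizationObjIso hU).hom
    ((X.fromSpecStalk (genericPoint X)).fromNormalization.app U a)).1 = X.germToFunctionField U a
  rw [Scheme.Hom.fromNormalization_app _ hU]
  simp only [CommRingCat.comp_apply, CategoryTheory.Iso.inv_hom_id_apply]
  exact genEquiv_app X U a

end Groth.Agent.Lib.Normalization.Basic
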