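import Mathlib.RingTheory.Localization.Integral
import Mathlib.RingTheory.Ideal.GoingUp
import Mathlib.RingTheory.LocalRing.MaximalIdeal.Basic
import Mathlib.RingTheory.Localization.FractionRing
import Mathlib.RingTheory.IntegralClosure.Algebra.Basic
import Mathlib.Topology.Instances.ENat
import Mathlib.Topology.Order.MonotoneConvergence
import Mathlib.Topology.Algebra.InfiniteSum.Order
import Mathlib.SetTheory.Cardinal.Finite

/-!
# Maximal ideals of the integral closure of a local ring, seen in the integral closure downstairs
-/

set_option autoImplicit false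

universe u v

set_option linter.unusedSectionVars false

namespace Groth.Agent.Lib.Normalization.Branches

/-- Cardinality of a sigma type as an infinite sum in `ℕ∞`. -/
theorem card_sigma_eq_tsum {α : Type u} (β : α → Type v) :
    ENat.card (Σ a, β a) = ∑' a, ENat.card (β a) := by
  classical
  have hs : HasSum (fun a => ENat.card (β a)) (⨆ s : Finset α, ∑ a ∈ s, ENat.card (β a)) :=
    tendsto_atTop_iSup (Finset.sum_mono_set _)
  rw [hs.tsum_eq]
  refine le_antisymm ?_ (iSup_le fun s => ?_)
  · have key : ∀ T : Finset (Σ a, β a), (T.card : ℕ∞) ≤ ⨆ s : Finset α, ∑ a ∈ s, ENat.card (β a) := by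
      intro T
      refine le_iSup_of_le (T.image Sigma.fst) ?_
      have h1 : T ⊆ (T.image Sigma.fst).sigma fun a =>
          (T.preimage (Sigma.mk a) sigma_mk_injective.injOn) := fun x hx => by
        obtain ⟨a, b⟩ := x
        simp only [Finset.mem_sigma, Finset.mem_image, Finset.mem_preimage]
        exact ⟨⟨⟨a, b⟩, hx, rfl⟩, hx⟩
      refine le_trans (Nat.cast_le.2 (Finset.card_le_card h1)) ?_
      rw [Finset.card_sigma, Nat.cast_sum]
      exact Finset.sum_le_sum fun a _ => by
        rw [← Set.encard_coe_eq_coe_finsetCard, ← Set.encard_univ]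
        exact Set.encard_le_encard (Set.subset_univ _)
    rcases finite_or_infinite (Σ a, β a) with h | h
    · cases nonempty_fintype (Σ a, β a)
      rw [ENat.card_eq_coe_fintype_card, ← Finset.card_univ]
      exact key _
    · rw [ENat.card_eq_top_of_infinite]
      refine le_of_eq (ENat.eq_top_iff_forall_ge.2 fun n => ?_).symm
      obtain ⟨T, hT⟩ := Infinite.exists_subset_card_eq (Σ a, β a) n
      exact hT ▸ key T
  · rcases finite_or_infinite (Σ a, β a) with h | h
    · have hβ : ∀ a, Finite (β a) := fun a => Finite.of_injective _ (sigma_mk_injective (i := a))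
      cases nonempty_fintype (Σ a, β a)
      let := fun a => Fintype.ofFinite (β a)
      simp only [ENat.card_eq_coe_fintype_card, ← Nat.cast_sum, Nat.cast_le]
      have h2 : (s.sigma fun a => (Finset.univ : Finset (β a))).card ≤ Fintype.card (Σ a, β a) :=
        Finset.card_le_univ _
      simpa [Finset.card_sigma] using h2
    · rw [ENat.card_eq_top_of_infinite]
      exact le_top

variable {A R L : Type u} [CommRing A] [CommRing R] [CommRing L] [Algebra A R] [Algebra R L]
  [Algebra A L] [IsScalarTower A R L]

/-- The inclusion of integral closures. -/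
def incl : integralClosure A L →+* integralClosure R L where
  toFun z := ⟨z.1, z.2.tower_top⟩
  map_one' := rfl
  map_mul' _ _ := rfl
  map_zero' := rfl
  map_add' _ _ := rfl

theorem incl_algebraMap (a : A) :
    incl (R := R) (algebraMap A (integralClosure A L) a) =
      algebraMap R (integralClosure R L) (algebraMap A R a) :=
  Subtype.ext (IsScalarTower.algebraMap_apply A R L a)

variable (p : Ideal A) [p.IsPrime] [IsLocalization.AtPrime R p]

include p in
theorem exists_smul_mem (b : integralClosure R L) :
    ∃ (s : A) (z : integralClosure A L), s ∉ p ∧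
      algebraMap R (integralClosure R L) (algebraMap A R s) * b = incl z := by
  obtain ⟨s, hs⟩ := IsIntegral.exists_multiple_integral_of_isLocalization p.primeCompl (b : L) b.2
  refine ⟨s.1, ⟨(s : A) • (b : L), hs⟩, s.2, Subtype.ext ?_⟩
  show algebraMap R L (algebraMap A R s) * b = (s : A) • (b : L)
  rw [← IsScalarTower.algebraMap_apply, Algebra.smul_def]

variable [IsLocalRing R]

include p in
theorem notMem_of_notMem (m : Ideal (integralClosure R L)) [m.IsMaximal] {s : A} (hs : s ∉ p) :
    algebraMap R (integralClosure R L) (algebraMap A R s) ∉ m := fun h =>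
  Ideal.IsPrime.ne_top' (Ideal.eq_top_of_isUnit_mem m h
    (((IsLocalization.map_units R (⟨s, hs⟩ : p.primeCompl))).map _))

include p in
theorem comap_incl (m : Ideal (integralClosure R L)) [m.IsMaximal] :
    (m.comap (incl (A := A))).comap (algebraMap A (integralClosure A L)) = p := by
  have : Algebra.IsIntegral R (integralClosure R L) := inferInstance
  have hm : m.comap (algebraMap R (integralClosure R L)) = IsLocalRing.maximalIdeal R :=
    IsLocalRing.eq_maximalIdeal (Ideal.isMaximal_comap_of_isIntegral_of_isMaximal m)
  ext a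
  rw [Ideal.mem_comap, Ideal.mem_comap, incl_algebraMap, ← Ideal.mem_comap, hm,
    IsLocalization.AtPrime.to_map_mem_maximal_iff R p]

include p in
theorem comap_incl_injective {m m' : Ideal (integralClosure R L)} [m.IsMaximal] [m'.IsMaximal]
    (h : m.comap (incl (A := A)) = m'.comap incl) : m = m' := by
  ext b
  obtain ⟨s, z, hs, hz⟩ := exists_smul_mem p b
  have key : ∀ n : Ideal (integralClosure R L), n.IsMaximal → (b ∈ n ↔ incl z ∈ n) := fun n hn => by
    rw [← hz]
    exact ⟨n.mul_mem_left _, fun h => (hn.isPrime.mem_or_mem h).resolve_left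
      (notMem_of_notMem p n hs)⟩
  rw [key m inferInstance, key m' inferInstance, ← Ideal.mem_comap, h, Ideal.mem_comap]

include p in
theorem exists_maximal_comap_eq (Q : Ideal (integralClosure A L)) [Q.IsPrime]
    (hQ : Q.comap (algebraMap A (integralClosure A L)) = p) :
    ∃ m : Ideal (integralClosure R L), m.IsMaximal ∧ m.comap incl = Q := by
  have hc : (Q.map (incl (R := R))).comap incl = Q := by
    refine le_antisymm (fun q hq => ?_) Ideal.le_comap_map
    have key : ∀ w ∈ Q.map (incl (R := R) (L := L)), ∃ (s : A) (z : integralClosure A L), s ∉ p ∧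
        z ∈ Q ∧ algebraMap R (integralClosure R L) (algebraMap A R s) * w = incl z := by
      intro w hw
      induction hw using Submodule.span_induction with
      | mem x hx =>
        obtain ⟨q, hq, rfl⟩ := hx
        exact ⟨1, q, fun h => ‹p.IsPrime›.ne_top ((Ideal.eq_top_iff_one _).2 h), hq, by simp⟩
      | zero => exact ⟨1, 0, fun h => ‹p.IsPrime›.ne_top ((Ideal.eq_top_iff_one _).2 h),
          zero_mem _, by simp⟩
      | add x y _ _ hx hy =>
        obtain ⟨s, z, hs, hz, e⟩ := hx
        obtain ⟨t, w, ht, hw, f⟩ := hy
        refine ⟨s * t, algebraMap A _ t * z + algebraMap A _ s * w,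
          fun h => (‹p.IsPrime›.mem_or_mem h).elim hs ht,
          add_mem (Q.mul_mem_left _ hz) (Q.mul_mem_left _ hw), ?_⟩
        rw [map_add, map_mul incl, map_mul incl, incl_algebraMap, incl_algebraMap, ← e, ← f, map_mul,
          map_mul]
        ring
      | smul b x _ hx =>
        obtain ⟨s, z, hs, hz, e⟩ := hx
        obtain ⟨t, w, ht, f⟩ := exists_smul_mem p b
        refine ⟨t * s, w * z, fun h => (‹p.IsPrime›.mem_or_mem h).elim ht hs,
          Q.mul_mem_left _ hz, ?_⟩
        rw [map_mul incl, ← e, ← f, map_mul, map_mul, smul_eq_mul]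
        ring
    obtain ⟨s, z, hs, hz, e⟩ := key _ hq
    rw [← incl_algebraMap, ← map_mul] at e
    have e' : algebraMap A (integralClosure A L) s * q = z := Subtype.ext (congrArg Subtype.val e : _)
    refine ((‹Q.IsPrime›).mem_or_mem (e' ▸ hz)).resolve_left fun h => hs ?_
    rw [← hQ]; exact h
  have hne : Q.map (incl (R := R) (L := L)) ≠ ⊤ := fun h =>
    ‹Q.IsPrime›.ne_top (by rw [← hc, h, Ideal.comap_top])
  obtain ⟨m, hm, hle⟩ := Ideal.exists_le_maximal _ hne
  refine ⟨m, hm, ?_⟩
  have hQm : Q ≤ m.comap incl := hc.symm.le.trans (Ideal.comap_mono hle)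
  by_contra hne'
  have hlt : Q < m.comap incl := lt_of_le_of_ne hQm (Ne.symm hne')
  have h1 := Ideal.comap_lt_comap_of_integral_mem_sdiff (R := A) hlt.le
    (Classical.choose_spec (SetLike.exists_of_lt hlt)) (Algebra.IsIntegral.isIntegral _)
  rw [comap_incl p m, hQ] at h1
  exact lt_irrefl _ h1

end Groth.Agent.Lib.Normalization.Branches
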