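import Groth.Prelude.Def_Curv2
import Groth.Agent.Lib.Normalization.Branches
import Mathlib.Algebra.Module.LocalizedModule.Basic
import Mathlib.RingTheory.Localization.Module
import Mathlib.RingTheory.Length

/-!
# The cokernel into the integral closure, localized
-/

set_option autoImplicit false

universe u

set_option linter.unusedSectionVars false

namespace Groth.Agent.Lib.Normalization.Delta

open Groth.Agent.Lib.Normalization.Branches

variable {A R K N : Type u} [CommRing A] [IsDomain A] [CommRing R] [IsDomain R] [Field K] [Algebra A R]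
  [Algebra R K] [Algebra A K] [IsScalarTower A R K] [IsFractionRing R K]
  [AddCommGroup N] [Module R N] [Module A N] [IsScalarTower A R N]

/-- Elements inverted in `R` act invertibly on `R`-modules. -/
theorem isUnit_smul (p : Ideal A) [p.IsPrime] [IsLocalization.AtPrime R p] (s : p.primeCompl) :
    IsUnit (algebraMap A (Module.End A N) s) := by
  rw [Module.End.isUnit_iff]
  have hu := IsLocalization.map_units R s
  obtain ⟨r, hr⟩ := hu.exists_left_inv
  refine Function.bijective_iff_has_inverse.2 ⟨fun n => r • n, fun n => ?_, fun n => ?_⟩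
  · show r • (s : A) • n = n
    rw [← algebraMap_smul R (s : A) n, smul_smul, hr, one_smul]
  · show (s : A) • r • n = n
    rw [← algebraMap_smul R (s : A) (r • n), smul_smul, mul_comm, hr, one_smul]

/-- The inclusion of integral closures as a linear map. -/
def inclₗ : integralClosure A K →ₗ[A] integralClosure R K where
  toFun z := ⟨z.1, z.2.tower_top⟩
  map_add' _ _ := rfl
  map_smul' _ _ := rfl

theorem isLocalizedModule_incl (p : Ideal A) [p.IsPrime] [IsLocalization.AtPrime R p] :
    IsLocalizedModule p.primeCompl (inclₗ (A := A) (R := R) (K := K)) where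
  map_units := isUnit_smul (R := R) p
  surj y := by
    obtain ⟨s, z, hs, hz⟩ := exists_smul_mem (R := R) (L := K) p y
    refine ⟨(z, ⟨s, hs⟩), Subtype.ext ?_⟩
    have h := congrArg Subtype.val hz
    simp only [MulMemClass.coe_mul] at h
    show (s : A) • (y : K) = z
    rw [Algebra.smul_def, IsScalarTower.algebraMap_apply A R K]
    exact h
  exists_of_eq {x₁ x₂} h := ⟨1, by
    have : x₁ = x₂ := Subtype.ext (congrArg (fun z : integralClosure R K => z.1) h)
    rw [this]⟩

/-- The stalk cokernel is the cokernel of `R` in its integral closure. -/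
theorem exists_equiv_deltaQuotient (p : Ideal A) [p.IsPrime] [IsLocalization.AtPrime R p]
    (g : integralClosure A K →ₗ[A] N) (hg : Function.Injective g)
    (hs : ∀ n : N, ∃ s : A, s ∉ p ∧ ∃ z, s • n = g z) :
    Nonempty ((N ⧸ Submodule.span R {g 1}) ≃ₗ[R]
      (↥(integralClosure R (FractionRing R)) ⧸
        LinearMap.range (Algebra.linearMap R ↥(integralClosure R (FractionRing R))))) := by
  have h1 : IsLocalizedModule p.primeCompl g :=
    { map_units := isUnit_smul (R := R) p
      surj := fun y => by
        obtain ⟨s, hs', z, hz⟩ := hs y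
        exact ⟨(z, ⟨s, hs'⟩), hz⟩
      exists_of_eq := fun {x₁ x₂} h => ⟨1, by rw [hg h]⟩ }
  have h2 := isLocalizedModule_incl (A := A) (R := R) (K := K) p
  let e₀ := IsLocalizedModule.linearEquiv p.primeCompl g (inclₗ (A := A) (R := R) (K := K))
  let e₁ : N ≃ₗ[R] integralClosure R K := e₀.extendScalarsOfIsLocalization p.primeCompl R
  let ε : FractionRing R ≃ₐ[R] K := FractionRing.algEquiv R K
  let e₂ : N ≃ₗ[R] integralClosure R (FractionRing R) :=
    e₁.trans (AlgEquiv.mapIntegralClosure ε).symm.toLinearEquiv
  have he : e₂ (g 1) = 1 := by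
    show (AlgEquiv.mapIntegralClosure ε).symm (e₀ (g 1)) = 1
    rw [IsLocalizedModule.linearEquiv_apply]
    exact map_one (AlgEquiv.mapIntegralClosure ε).symm
  refine ⟨Submodule.Quotient.equiv _ _ e₂ ?_⟩
  rw [Submodule.map_span, Set.image_singleton]
  show Submodule.span R {e₂ (g 1)} = _
  rw [he]
  ext z
  simp [Submodule.mem_span_singleton, LinearMap.mem_range, Algebra.algebraMap_eq_smul_one]

theorem length_quotient_eq_deltaInv (p : Ideal A) [p.IsPrime] [IsLocalization.AtPrime R p]
    (g : integralClosure A K →ₗ[A] N) (hg : Function.Injective g)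
    (hs : ∀ n : N, ∃ s : A, s ∉ p ∧ ∃ z, s • n = g z) :
    Module.length R (N ⧸ Submodule.span R {g 1}) = Curv2.deltaInv R :=
  (exists_equiv_deltaQuotient p g hg hs).elim fun e => e.length_eq

/-- The δ-invariant of a field vanishes. -/
theorem deltaInv_eq_zero_of_isField (R : Type u) [CommRing R] [IsDomain R] (hR : IsField R) :
    Curv2.deltaInv R = 0 := by
  rw [Curv2.deltaInv, Module.length_eq_zero_iff, Submodule.Quotient.subsingleton_iff, eq_top_iff]
  intro z _
  let := hR.toField
  obtain ⟨a, b, hb, h⟩ := IsFractionRing.div_surjective (A := R) (z : FractionRing R)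
  refine ⟨a / b, Subtype.ext ?_⟩
  show algebraMap R (FractionRing R) (a / b) = z
  rw [map_div₀, h]

end Groth.Agent.Lib.Normalization.Delta
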