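import Groth.Prelude.Def_ClSub2
import Groth.Agent.Lib.Normalization.Delta
import Groth.Agent.Lib.Normalization.Basic
import Groth.Agent.Lib.Modules.StalkModule
import Mathlib.CategoryTheory.Limits.Preserves.Shapes.Kernels
import Mathlib.Algebra.Category.ModuleCat.Kernels

/-!
# The stalks of `ν_* O / O` for the normalization
-/

set_option autoImplicit false
set_option linter.style.haveILetI false

universe u

open CategoryTheory CategoryTheory.Limits AlgebraicGeometry TopologicalSpace Opposite

namespace Groth.Agent.Lib.Normalization.CokerStalk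

open Groth.Agent.Lib.Normalization.Basic Groth.Agent.Lib.Normalization.Eval
open Groth.Agent.Lib.Modules.StalkModule

/-- The stalk of a cokernel of O-modules. -/
theorem exists_cokernel_stalk_equiv {X : Scheme.{u}} {M N : X.Modules} (φ : M ⟶ N) (x : X) :
    Nonempty ((cokernel φ).presheaf.stalk x ≃ₗ[X.presheaf.stalk x]
      (N.presheaf.stalk x ⧸ LinearMap.range (stalkMapₗ φ x))) := by
  haveI : PreservesColimitsOfSize.{0, 0} (stalkModFunctor X x) :=
    preservesColimitsOfSize_shrink.{0, u} _
  exact ⟨((PreservesCokernel.iso (stalkModFunctor X x) φ) ≪≫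
    ModuleCat.cokernelIsoRangeQuotient _).toLinearEquiv⟩

variable (X : Scheme.{u})

/-- The section `1` of the structure module. -/
noncomputable def oneSec (U : X.Opens) : Γ(Coh.structureModule X, U) := (1 : Γ(X, U))

theorem exists_smul_germ_one {U : X.Opens} {x : X} (hx : x ∈ U)
    (v : (Coh.structureModule X).presheaf.stalk x) :
    ∃ a : X.presheaf.stalk x, a • (Coh.structureModule X).presheaf.germ U x hx (oneSec X U) = v := by
  obtain ⟨W, hxW, s, rfl⟩ := TopCat.Presheaf.exists_germ_eq (Coh.structureModule X).presheaf v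
  let s' : Γ(X, W) := s
  refine ⟨X.presheaf.germ W x hxW s', ?_⟩
  have e1 : (Coh.structureModule X).presheaf.germ U x hx (oneSec X U) =
      (Coh.structureModule X).presheaf.germ W x hxW (oneSec X W) := by
    have h : ∀ (A B : X.Opens) (hAB : A ≤ B),
        (Coh.structureModule X).presheaf.map (homOfLE hAB).op (oneSec X B) = oneSec X A :=
      fun A B hAB => map_one (X.presheaf.map (homOfLE hAB).op).hom
    rw [← TopCat.Presheaf.germ_res_apply _ (homOfLE (inf_le_left : U ⊓ W ≤ U)) x ⟨hx, hxW⟩,
      ← TopCat.Presheaf.germ_res_apply _ (homOfLE (inf_le_right : U ⊓ W ≤ W)) x ⟨hx, hxW⟩, h, h]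
  rw [e1, ← germ_smul]
  congr 1
  exact mul_one s'

variable [IsIntegral X] [QuasiCompact (X.fromSpecStalk (genericPoint X))]
  [QuasiSeparated (X.fromSpecStalk (genericPoint X))]

theorem app_injective (W : X.Opens) : Function.Injective ((Curv2.normalizationι X).app W) := by
  rcases isEmpty_or_nonempty W with h | h
  · have hW : W = ⊥ := by
      ext y
      exact ⟨fun hy => (h.false ⟨y, hy⟩).elim, fun hy => hy.elim⟩
    subst hW
    exact Function.injective_of_subsingleton _
  · have hinj : Function.Injective ((X.fromSpecStalk (genericPoint X)).app W) := fun a b hab =>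
      X.germToFunctionField_injective W
        (by rw [← genEquiv_app, ← genEquiv_app, hab])
    intro a b hab
    apply hinj
    have hab' : (X.fromSpecStalk (genericPoint X)).fromNormalization.app W a =
        (X.fromSpecStalk (genericPoint X)).fromNormalization.app W b := hab
    rw [Scheme.Hom.congr_app (Scheme.Hom.toNormalization_fromNormalization
      (X.fromSpecStalk (genericPoint X))).symm W]
    exact congrArg (fun z => (Spec (X.presheaf.stalk (genericPoint X))).presheaf.map _
      ((X.fromSpecStalk (genericPoint X)).toNormalization.app _ z)) hab'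

theorem stalkMap_injective (x : X) :
    Function.Injective (stalkMapₗ (ClSub.unitToPush (Curv2.normalizationι X)) x) := by
  refine (injective_iff_map_eq_zero _).2 fun v hv => ?_
  obtain ⟨U, hxU, s, rfl⟩ := TopCat.Presheaf.exists_germ_eq (Coh.structureModule X).presheaf v
  rw [stalkMapₗ_germ] at hv
  obtain ⟨W, hxW, i, j, hW⟩ := TopCat.Presheaf.germ_eq _ x hxU hxU _ 0 (hv.trans (map_zero _).symm)
  rw [map_zero] at hW
  let s' : Γ(X, U) := s
  have h1 : (Curv2.normalizationι X).app W (X.presheaf.map i.op s') = 0 := by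
    have h0 := congr($(Scheme.Hom.naturality (Curv2.normalizationι X) i.op) s')
    exact h0.trans hW
  have h2 : X.presheaf.map i.op s' = 0 := app_injective X W (h1.trans (map_zero _).symm)
  rw [← TopCat.Presheaf.germ_res_apply _ i x hxW]
  exact (congrArg ((Coh.structureModule X).presheaf.germ W x hxW) h2).trans (map_zero _)

/-- The stalk of `ν_* O / O` has length the δ-invariant. -/
theorem exists_stalk_equiv (x : X) :
    Nonempty ((cokernel (ClSub.unitToPush (Curv2.normalizationι X))).presheaf.stalk x
      ≃ₗ[X.presheaf.stalk x]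
      (↥(integralClosure (X.presheaf.stalk x) (FractionRing (X.presheaf.stalk x))) ⧸
        LinearMap.range (Algebra.linearMap (X.presheaf.stalk x)
          ↥(integralClosure (X.presheaf.stalk x) (FractionRing (X.presheaf.stalk x)))))) := by
  obtain ⟨_, ⟨U, hU, rfl⟩, hxU, -⟩ :=
    X.isBasis_affineOpens.exists_subset_of_mem_open (Set.mem_univ x) isOpen_univ
  replace hU : IsAffineOpen U := hU
  haveI : Nonempty U := ⟨⟨x, hxU⟩⟩
  set ν := Curv2.normalizationι X
  set N := (Scheme.Modules.pushforward ν).obj (Coh.structureModule (Curv2.normalization X))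
  have hV : IsAffineOpen (ν ⁻¹ᵁ U) := isAffineOpen_preimage X hU
  set R := X.presheaf.stalk x
  letI aAR : Algebra Γ(X, U) R := TopCat.Presheaf.algebra_section_stalk X.presheaf (⟨x, hxU⟩ : U)
  haveI hloc : IsLocalization.AtPrime R (hU.primeIdealOf ⟨x, hxU⟩).asIdeal :=
    hU.isLocalization_stalk ⟨x, hxU⟩
  haveI : IsScalarTower Γ(X, U) R X.functionField := functionField_isScalarTower X U ⟨x, hxU⟩
  letI : Module Γ(X, U) (N.presheaf.stalk x) := Module.compHom _ (X.presheaf.germ U x hxU).hom
  haveI : IsScalarTower Γ(X, U) R (N.presheaf.stalk x) :=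
    ⟨fun r a v => mul_smul (X.presheaf.germ U x hxU r) a v⟩
  let e := sectionsEquiv X hU
  let toN : Γ(Curv2.normalization X, ν ⁻¹ᵁ U) → Γ(N, U) := fun t => t
  let g : integralClosure Γ(X, U) X.functionField →ₗ[Γ(X, U)] N.presheaf.stalk x :=
    { toFun := fun z => N.presheaf.germ U x hxU (toN (e.symm z))
      map_add' := fun z w => by
        rw [map_add]
        exact map_add (N.presheaf.germ U x hxU).hom _ _
      map_smul' := fun a z => by
        show _ = X.presheaf.germ U x hxU a • N.presheaf.germ U x hxU (toN (e.symm z))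
        rw [← germ_smul]
        congr 1
        show e.symm (a • z) = ν.app U a * e.symm z
        apply e.injective
        rw [map_mul, e.apply_symm_apply, e.apply_symm_apply, sectionsEquiv_app, Algebra.smul_def] }
  have hshrink : ∀ (W : X.Opens), x ∈ W → ∃ f : Γ(X, U), X.basicOpen f ≤ W ∧ x ∈ X.basicOpen f :=
    fun W hW => hU.exists_basicOpen_le (⟨x, hW⟩ : W) hxU
  have hfp : ∀ f : Γ(X, U), x ∈ X.basicOpen f → f ∉ (hU.primeIdealOf ⟨x, hxU⟩).asIdeal :=
    fun f hf h => ((Scheme.evaluation_ne_zero_iff_mem_basicOpen X x hxU f).2 hf)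
      ((mem_primeIdealOf_iff hU hxU f).1 h)
  have hne : ∀ f : Γ(X, U), x ∈ X.basicOpen f → ν.app U f ≠ 0 := fun f hf h0 => by
    have : f = 0 := app_injective X U (h0.trans (map_zero _).symm)
    subst this
    simp at hf
  haveI : Nonempty (ν ⁻¹ᵁ U) := nonempty_preimage X U
  have hg : Function.Injective g := by
    refine (injective_iff_map_eq_zero _).2 fun z hz => ?_
    have hz' : N.presheaf.germ U x hxU (toN (e.symm z)) = N.presheaf.germ U x hxU 0 :=
      hz.trans (map_zero (N.presheaf.germ U x hxU).hom).symm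
    obtain ⟨W, hxW, i, j, hW⟩ := TopCat.Presheaf.germ_eq _ x hxU hxU _ 0 hz'
    rw [map_zero] at hW
    obtain ⟨f, hfW, hxf⟩ := hshrink W hxW
    have hD : (Curv2.normalization X).basicOpen (ν.app U f) ≤ ν ⁻¹ᵁ W := by
      rw [← Scheme.preimage_basicOpen]
      exact ν.preimage_mono hfW
    haveI := hV.isLocalization_basicOpen (ν.app U f)
    have h3 : algebraMap Γ(Curv2.normalization X, ν ⁻¹ᵁ U)
        Γ(Curv2.normalization X, (Curv2.normalization X).basicOpen (ν.app U f)) (e.symm z) = 0 := by
      have hWz : (Curv2.normalization X).presheaf.map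
          (homOfLE (ν.preimage_mono i.le)).op (e.symm z) = 0 := hW
      have := congrArg ((Curv2.normalization X).presheaf.map (homOfLE hD).op) hWz
      rw [map_zero, ← CommRingCat.comp_apply, ← Functor.map_comp] at this
      exact this
    obtain ⟨⟨c, k, rfl⟩, hc⟩ :=
      (IsLocalization.map_eq_zero_iff (Submonoid.powers (ν.app U f)) _ _).1 h3
    have h4 : e.symm z = 0 := (mul_eq_zero.1 hc).resolve_left (pow_ne_zero k (hne f hxf))
    rw [← e.apply_symm_apply z, h4, map_zero]
  have hsurj : ∀ n : N.presheaf.stalk x, ∃ s : Γ(X, U),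
      s ∉ (hU.primeIdealOf ⟨x, hxU⟩).asIdeal ∧ ∃ z, s • n = g z := by
    intro n
    obtain ⟨W, hxW, t, rfl⟩ := TopCat.Presheaf.exists_germ_eq N.presheaf n
    obtain ⟨f, hfW, hxf⟩ := hshrink W hxW
    have hpre : ν ⁻¹ᵁ X.basicOpen f = (Curv2.normalization X).basicOpen (ν.app U f) :=
      Scheme.preimage_basicOpen _ _
    let t₀ : Γ(Curv2.normalization X, ν ⁻¹ᵁ W) := t
    haveI := hV.isLocalization_basicOpen (ν.app U f)
    have hD : (Curv2.normalization X).basicOpen (ν.app U f) ≤ ν ⁻¹ᵁ W :=
      hpre ▸ ν.preimage_mono hfW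
    obtain ⟨⟨w, ⟨_, k, rfl⟩⟩, hw⟩ := IsLocalization.surj (Submonoid.powers (ν.app U f))
      ((Curv2.normalization X).presheaf.map (homOfLE hD).op t₀)
    refine ⟨f ^ k, fun h => hfp f hxf ((hU.primeIdealOf ⟨x, hxU⟩).2.mem_of_pow_mem k h), e w, ?_⟩
    show X.presheaf.germ U x hxU (f ^ k) • N.presheaf.germ W x hxW t =
      N.presheaf.germ U x hxU (toN (e.symm (e w)))
    rw [e.symm_apply_apply, ← TopCat.Presheaf.germ_res_apply N.presheaf (homOfLE hfW) x hxf t,
      ← TopCat.Presheaf.germ_res_apply N.presheaf (homOfLE (X.basicOpen_le f)) x hxf (toN w),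
      ← TopCat.Presheaf.germ_res_apply X.presheaf (homOfLE (X.basicOpen_le f)) x hxf (f ^ k),
      ← germ_smul]
    congr 1
    let P := Curv2.normalization X
    have hbij : Function.Bijective (P.presheaf.map (eqToHom hpre.symm).op) :=
      ConcreteCategory.bijective_of_isIso _
    apply hbij.1
    have e1 : P.presheaf.map (eqToHom hpre.symm).op
        (ν.app (X.basicOpen f) (X.presheaf.map (homOfLE (X.basicOpen_le f)).op (f ^ k)) *
          P.presheaf.map (homOfLE (ν.preimage_mono hfW)).op t₀) =
        P.presheaf.map (eqToHom hpre.symm).op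
          (P.presheaf.map (homOfLE (ν.preimage_mono (X.basicOpen_le f))).op w) := by
      rw [map_mul]
      have hn := congr($(Scheme.Hom.naturality ν (homOfLE (X.basicOpen_le f)).op) (f ^ k))
      simp only [CommRingCat.comp_apply] at hn
      rw [hn]
      simp only [← CommRingCat.comp_apply, ← Functor.map_comp]
      rw [mul_comm]
      refine Eq.trans ?_ (Eq.trans hw ?_)
      · congr 1
        show _ = P.presheaf.map (homOfLE ((Curv2.normalization X).basicOpen_le _)).op ((ν.app U f) ^ k)
        simp only [map_pow]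
        congr 1
        simp only [Category.assoc, CommRingCat.comp_apply]
        exact (ConcreteCategory.congr_hom (P.presheaf.map_comp _ _) _).symm
      · rfl
    exact e1
  obtain ⟨E⟩ := Delta.exists_equiv_deltaQuotient (R := (R : Type u)) (K := X.functionField) (N := N.presheaf.stalk x)
    (hU.primeIdealOf ⟨x, hxU⟩).asIdeal g hg hsurj
  obtain ⟨E₁⟩ := exists_cokernel_stalk_equiv (ClSub.unitToPush ν) x
  refine ⟨(E₁.trans (Submodule.quotEquivOfEq _ _ ?_)).trans E⟩
  have hone : stalkMapₗ (ClSub.unitToPush ν) x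
      ((Coh.structureModule X).presheaf.germ U x hxU (oneSec X U)) = g 1 := by
    rw [stalkMapₗ_germ]
    show _ = N.presheaf.germ U x hxU (toN (e.symm 1))
    rw [map_one]
    congr 1
    exact map_one (ν.app U).hom
  refine le_antisymm ?_ (Submodule.span_le.2 (Set.singleton_subset_iff.2 ⟨_, hone⟩))
  rintro _ ⟨v, rfl⟩
  obtain ⟨a, rfl⟩ := exists_smul_germ_one X hxU v
  rw [map_smul, hone]
  exact Submodule.smul_mem _ _ (Submodule.mem_span_singleton_self _)

end Groth.Agent.Lib.Normalization.CokerStalk
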