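import Groth.Agent.S7689

/-!
# The normalization is an isomorphism over a nonempty open when it is finite
-/

set_option autoImplicit false
universe u
open CategoryTheory CategoryTheory.Limits AlgebraicGeometry

namespace Groth.Agent.Lib.Normalization.Birational

open Groth.Agent.Lib.Normalization.Basic Groth.Agent.Lib.Normalization.CokerStalk Groth.Agent.S7689

/-- The normalization is an isomorphism over a nonempty open. -/
theorem exists_iso (X : Scheme.{u}) [IsIntegral X]
    [QuasiCompact (X.fromSpecStalk (genericPoint X))] [QuasiSeparated (X.fromSpecStalk (genericPoint X))]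
    (hfin : ∀ (U : X.Opens) (_ : Nonempty U), IsAffineOpen U →
      Module.Finite Γ(X, U) (integralClosure Γ(X, U) X.functionField)) :
    ∃ U : X.Opens, Dense (U : Set X) ∧ (U : Set X).Nonempty ∧ IsIso (Curv2.normalizationι X ∣_ U) := by
  obtain ⟨_, ⟨U, hU, rfl⟩, hxU, -⟩ :=
    X.isBasis_affineOpens.exists_subset_of_mem_open (Set.mem_univ (genericPoint X)) isOpen_univ
  replace hU : IsAffineOpen U := hU
  have : Nonempty U := ⟨⟨_, hxU⟩⟩
  have := functionField_isFractionRing_of_isAffineOpen X U hU
  obtain ⟨s, hs0, hs⟩ := exists_conductor (hfin U inferInstance hU)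
  set ν := Curv2.normalizationι X
  have hV := isAffineOpen_preimage X hU
  refine ⟨X.basicOpen s, ?_, ?_, ?_⟩
  · refine (X.basicOpen s).2.dense ?_
    by_contra h
    rw [Set.not_nonempty_iff_eq_empty] at h
    exact hs0 ((AlgebraicGeometry.basicOpen_eq_bot_iff s).1 (TopologicalSpace.Opens.ext h))
  · by_contra h
    rw [Set.not_nonempty_iff_eq_empty] at h
    exact hs0 ((AlgebraicGeometry.basicOpen_eq_bot_iff s).1 (TopologicalSpace.Opens.ext h))
  · rw [isIso_morphismRestrict_iff_isIso_app _ (hU.basicOpen s), ConcreteCategory.isIso_iff_bijective]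
    have := hU.isLocalization_basicOpen s
    have := hV.isLocalization_basicOpen (ν.app U s)
    let P := Curv2.normalization X
    let c := P.presheaf.map (eqToHom (Scheme.preimage_basicOpen ν s).symm).op
    have hc : Function.Bijective c := ConcreteCategory.bijective_of_isIso _
    have hkey : Function.Bijective (fun z => c (ν.app (X.basicOpen s) z)) := by
      refine away_map_bijective (ν.app U).hom (app_injective X U) s (fun b => ?_)
        ((ν.app (X.basicOpen s)) ≫ c).hom fun a => ?_
      · obtain ⟨a, ha⟩ := hs (sectionsEquiv X hU b)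
        refine ⟨a, (sectionsEquiv X hU).injective ?_⟩
        rw [map_mul]
        exact (congrArg (· * _) (sectionsEquiv_app X hU s)).trans
          (ha.trans (sectionsEquiv_app X hU a).symm)
      · have hn := congr($(Scheme.Hom.naturality ν (homOfLE (X.basicOpen_le s)).op) a)
        show c (ν.app (X.basicOpen s) (X.presheaf.map (homOfLE (X.basicOpen_le s)).op a)) = _
        simp only [CommRingCat.comp_apply] at hn
        rw [hn]
        exact (ConcreteCategory.congr_hom (P.presheaf.map_comp _ _) _).symm
    exact (Function.Bijective.of_comp_iff' hc _).1 hkey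

end Groth.Agent.Lib.Normalization.Birational
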